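import Mathlib
import Cfsg.Agent.Classical.SUThree.RegularVector

/-!
# An element whose order is a primitive prime of the dimension

Its centraliser in a finite linear group is cyclic and it is only conjugate to its Frobenius powers.
-/

set_option autoImplicit false
set_option linter.unusedSectionVars false
set_option linter.style.haveILetI false

namespace Cfsg.Lib.Blocks.ThreeChars

open Polynomial

universe u v

variable {p : ℕ} [hp : Fact p.Prime] {V : Type v} [AddCommGroup V] [Module (ZMod p) V] [Finite V]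
  {E : Type u} [Group E] [Finite E] (ρ : E →* Module.End (ZMod p) V)

/-- The minimal polynomial is irreducible of degree the dimension. -/
theorem minpoly_irr (hinj : Function.Injective ρ) {x : E} {r : ℕ} [Fact r.Prime] (hx : orderOf x = r)
    (hord : orderOf (p : ZMod r) = Module.finrank (ZMod p) V) (hrp : r ≠ p) :
    Irreducible (minpoly (ZMod p) (ρ x)) ∧
      (minpoly (ZMod p) (ρ x)).natDegree = Module.finrank (ZMod p) V := by
  have hr : r.Prime := Fact.out
  have hcop : p.Coprime r := (Nat.coprime_primes hp.out hr).2 (Ne.symm hrp)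
  set T := ρ x with hT
  have hint : IsIntegral (ZMod p) T := Algebra.IsIntegral.isIntegral T
  set m := minpoly (ZMod p) T with hm
  have hdvd : m ∣ (X - C 1) * cyclotomic r (ZMod p) := by
    rw [mul_comm, map_one, cyclotomic_prime_mul_X_sub_one]
    refine minpoly.dvd _ _ ?_
    rw [map_sub, map_pow, aeval_X, map_one, hT, ← map_pow, ← hx, pow_orderOf_eq_one, map_one, sub_self]
  obtain ⟨P, hP, hPm, hPc⟩ : ∃ P, Irreducible P ∧ P ∣ m ∧ P ∣ cyclotomic r (ZMod p) := by
    by_cases hc : IsCoprime m (cyclotomic r (ZMod p))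
    · exfalso
      have h1 : aeval T (X - C (1 : ZMod p)) = 0 := by
        obtain ⟨e, he⟩ := hc.dvd_of_dvd_mul_right hdvd
        rw [he, map_mul, hm, minpoly.aeval, zero_mul]
      rw [map_sub, aeval_X, aeval_C, map_one, sub_eq_zero] at h1
      have hx1 : x = 1 := hinj (by rw [map_one]; exact h1)
      rw [hx1, orderOf_one] at hx
      exact hr.one_lt.ne hx
    · have hg : ¬ IsUnit (EuclideanDomain.gcd m (cyclotomic r (ZMod p))) := fun h =>
        hc (EuclideanDomain.gcd_isUnit_iff.1 h)
      obtain ⟨P, hP, hPd⟩ := WfDvdMonoid.exists_irreducible_factor hg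
        (by rw [Ne, EuclideanDomain.gcd_eq_zero_iff]; exact fun h => minpoly.ne_zero hint h.1)
      exact ⟨P, hP, hPd.trans (EuclideanDomain.gcd_dvd_left _ _), hPd.trans (EuclideanDomain.gcd_dvd_right _ _)⟩
  have hdegP : P.natDegree = Module.finrank (ZMod p) V := by
    rw [natDegree_of_dvd_cyclotomic_of_irreducible (K := ZMod p) (f := 1) (by rw [ZMod.card, pow_one]) hcop hPc hP,
      ← orderOf_units, ZMod.coe_unitOfCoprime, pow_one, hord]
  have hle : m.natDegree ≤ Module.finrank (ZMod p) V := by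
    rw [← LinearMap.charpoly_natDegree T]
    exact natDegree_le_of_dvd (LinearMap.minpoly_dvd_charpoly T) (LinearMap.charpoly_monic T).ne_zero
  have hge := natDegree_le_of_dvd hPm (minpoly.ne_zero hint)
  refine ⟨?_, by omega⟩
  exact (associated_of_dvd_of_natDegree_le hPm (minpoly.ne_zero hint) (by omega)).irreducible hP

/-- Its centraliser is cyclic. -/
theorem centralizer_cyclic (hinj : Function.Injective ρ) {x : E} {r : ℕ} [Fact r.Prime] (hx : orderOf x = r)
    (hord : orderOf (p : ZMod r) = Module.finrank (ZMod p) V) (hrp : r ≠ p) :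
    IsCyclic (Subgroup.centralizer ({x} : Set E)) := by
  obtain ⟨hirr, hdeg⟩ := minpoly_irr ρ hinj hx hord hrp
  set m := minpoly (ZMod p) (ρ x) with hm
  haveI := Fact.mk hirr
  have hpoly : ∀ g : Subgroup.centralizer ({x} : Set E), ∃ f : (ZMod p)[X], ρ g = aeval (ρ x) f := fun g =>
    Cfsg.Lib.Classical.SUThree.commute_eq_aeval (ρ x) hirr.squarefree hdeg
      (by rw [← map_mul, ← map_mul, Subgroup.mem_centralizer_singleton_iff.1 g.2])
  choose f hf using hpoly
  have hmk : ∀ a b : (ZMod p)[X], AdjoinRoot.mk m a = AdjoinRoot.mk m b ↔ aeval (ρ x) a = aeval (ρ x) b := fun a b => by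
    rw [AdjoinRoot.mk_eq_mk, hm, minpoly.dvd_iff, map_sub, sub_eq_zero]
  let ψ : Subgroup.centralizer ({x} : Set E) →* AdjoinRoot m :=
    { toFun := fun g => AdjoinRoot.mk m (f g)
      map_one' := by rw [← map_one (AdjoinRoot.mk m), hmk, ← hf, map_one, OneMemClass.coe_one, map_one]
      map_mul' := fun g h => by rw [← map_mul, hmk, ← hf, map_mul, ← hf, ← hf, Subgroup.coe_mul, map_mul] }
  exact isCyclic_of_injective_ringHom ψ fun g h e => Subtype.ext (hinj (by rw [hf, hf]; exact (hmk _ _).1 e))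

/-- It is only conjugate to its Frobenius powers. -/
theorem conj_pow_frobenius (hinj : Function.Injective ρ) {x e : E} {r i : ℕ} [Fact r.Prime] (hx : orderOf x = r)
    (hord : orderOf (p : ZMod r) = Module.finrank (ZMod p) V) (hrp : r ≠ p) (he : e * x * e⁻¹ = x ^ i) :
    ∃ j < Module.finrank (ZMod p) V, x ^ i = x ^ p ^ j := by
  classical
  have hr : r.Prime := Fact.out
  obtain ⟨hirr, hdeg⟩ := minpoly_irr ρ hinj hx hord hrp
  set m := minpoly (ZMod p) (ρ x) with hm
  haveI := Fact.mk hirr
  have hint : IsIntegral (ZMod p) (ρ x) := Algebra.IsIntegral.isIntegral _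
  set ζ := AdjoinRoot.root m
  have hmk : ∀ a b : (ZMod p)[X], AdjoinRoot.mk m a = AdjoinRoot.mk m b ↔ aeval (ρ x) a = aeval (ρ x) b := fun a b => by
    rw [AdjoinRoot.mk_eq_mk, hm, minpoly.dvd_iff, map_sub, sub_eq_zero]
  have hpow : ∀ k l : ℕ, ζ ^ k = ζ ^ l ↔ x ^ k = x ^ l := fun k l => by
    rw [show ζ = AdjoinRoot.mk m X from AdjoinRoot.mk_X.symm, ← map_pow, ← map_pow, hmk, map_pow, map_pow, aeval_X, ← map_pow, ← map_pow, hinj.eq_iff]
  have haev : ∀ q : (ZMod p)[X], aeval (ρ (e * x * e⁻¹)) q = ρ e * aeval (ρ x) q * ρ e⁻¹ := fun q => by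
    induction q using Polynomial.induction_on' with
    | add a b ha hb => rw [map_add, map_add, ha, hb, mul_add, add_mul]
    | monomial n a =>
      rw [aeval_monomial, aeval_monomial, ← map_pow, ← map_pow, conj_pow, map_mul, map_mul]
      rw [← mul_assoc, ← mul_assoc, ← mul_assoc (ρ e), (Algebra.commutes a (ρ e)).symm]
  have hroot : aeval (ζ ^ i) m = 0 := by
    have h : AdjoinRoot.mk m (m.comp (X ^ i)) = AdjoinRoot.mk m 0 := by
      rw [hmk, aeval_comp, map_pow, aeval_X, ← map_pow, ← he, haev, hm, minpoly.aeval, mul_zero, zero_mul, map_zero]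
    rwa [map_zero, ← AdjoinRoot.aeval_eq, aeval_comp, map_pow, aeval_X] at h
  set a := Module.finrank (ZMod p) V
  have hfrob : ∀ z : AdjoinRoot m, aeval (z ^ p) m = aeval z m ^ p := fun z => by
    rw [← expand_aeval, ZMod.expand_card, map_pow]
  have hroots : ∀ j, aeval (ζ ^ p ^ j) m = 0 := fun j => by
    induction j with
    | zero => rw [pow_zero, pow_one, AdjoinRoot.aeval_eq, AdjoinRoot.mk_self]
    | succ j ih => rw [pow_succ p, pow_mul, hfrob, ih, zero_pow hp.out.ne_zero]
  have hinjP : Set.InjOn (fun j => ζ ^ p ^ j) (Finset.range a : Set ℕ) := by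
    intro j hj l hl h
    rw [hpow, pow_eq_pow_iff_modEq, hx, ← ZMod.natCast_eq_natCast_iff, Nat.cast_pow, Nat.cast_pow] at h
    have hu : IsUnit (p : ZMod r) := (ZMod.isUnit_iff_coprime _ _).2 ((Nat.coprime_primes hp.out hr).2 (Ne.symm hrp))
    exact pow_injOn_Iio_orderOf (by simpa [hord] using hj) (by simpa [hord] using hl) h
  have hm0 : (m.map (algebraMap (ZMod p) (AdjoinRoot m))) ≠ 0 :=
    (Polynomial.map_ne_zero_iff (algebraMap (ZMod p) (AdjoinRoot m)).injective).2 (minpoly.ne_zero hint)
  have hsub : (Finset.range a).image (fun j => ζ ^ p ^ j) = (m.map (algebraMap (ZMod p) (AdjoinRoot m))).roots.toFinset := by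
    refine Finset.eq_of_subset_of_card_le (fun z hz => ?_) ?_
    · obtain ⟨j, -, rfl⟩ := Finset.mem_image.1 hz
      rw [Multiset.mem_toFinset, mem_roots hm0, IsRoot.def, eval_map, ← aeval_def, hroots]
    · rw [Finset.card_image_of_injOn hinjP, Finset.card_range]
      refine (Multiset.toFinset_card_le _).trans ((card_roots' _).trans ?_)
      rw [natDegree_map, hdeg]
  have hi : ζ ^ i ∈ (Finset.range a).image (fun j => ζ ^ p ^ j) := by
    rw [hsub, Multiset.mem_toFinset, mem_roots hm0, IsRoot.def, eval_map, ← aeval_def, hroot]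
  obtain ⟨j, hj, hji⟩ := Finset.mem_image.1 hi
  exact ⟨j, Finset.mem_range.1 hj, (hpow _ _).1 hji.symm⟩

end Cfsg.Lib.Blocks.ThreeChars
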