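import Mathlib
import Cfsg.Agent.Components.Misc.Zsigmondy

/-!
# A cyclotomic value with a single primitive prime one more than the exponent
-/

set_option autoImplicit false
set_option linter.unusedSectionVars false
set_option linter.style.haveILetI false

namespace Cfsg.Lib.Blocks.ThreeChars

open Polynomial

/-- The square of the totient of an odd number is at least the number. -/
theorem le_totient_sq : ∀ o : ℕ, Odd o → o ≤ o.totient ^ 2 := by
  intro o
  induction o using Nat.recOnPosPrimePosCoprime with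
  | prime_pow q n hq hn =>
    intro hodd
    have hq3 : 3 ≤ q := by
      have := hq.two_le
      rcases eq_or_ne q 2 with rfl | h
      · exact absurd hodd (by simp [Nat.not_odd_iff_even, Nat.even_pow, hn.ne'])
      · omega
    obtain ⟨m, rfl⟩ : ∃ m, n = m + 1 := ⟨n - 1, by omega⟩
    rw [Nat.totient_prime_pow_succ hq, mul_pow, pow_succ]
    refine Nat.mul_le_mul (Nat.le_self_pow (by norm_num) _) ?_
    obtain ⟨d, rfl⟩ : ∃ d, q = d + 3 := ⟨q - 3, by omega⟩
    rw [show d + 3 - 1 = d + 2 by omega]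
    nlinarith
  | zero => intro h; exact absurd h (by simp)
  | one => simp
  | coprime a b ha hb hab iha ihb =>
    intro h
    rw [Nat.totient_mul hab, mul_pow]
    exact Nat.mul_le_mul (iha (Nat.Odd.of_mul_left h)) (ihb (Nat.Odd.of_mul_right h))

/-- Growth. -/
theorem eight_pow_gt : ∀ w : ℕ, 5 ≤ w → 32 * w ^ 4 < 8 ^ w := by
  intro w hw
  induction w, hw using Nat.le_induction with
  | base => norm_num
  | succ w hw ih =>
    have : (w + 1) ^ 4 ≤ 8 * w ^ 4 := by nlinarith [Nat.mul_le_mul hw hw, Nat.mul_le_mul (Nat.mul_le_mul hw hw) hw]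
    rw [pow_succ 8 w]; omega

/-- Growth. -/
theorem three_pow_gt : ∀ h : ℕ, 8 ≤ h → (2 * h + 1) * (2 * h) < 3 ^ h := by
  intro h hh
  induction h, hh using Nat.le_induction with
  | base => norm_num
  | succ h hh ih =>
    rw [pow_succ]
    nlinarith

/-- The value is a product of the primitive prime and at most one prime divisor of the exponent. -/
theorem eval_dvd_of_unique {p a r : ℕ} (hp : 1 < p) (ha : 2 < a)
    (huniq : ∀ s : ℕ, s.Prime → s ∣ p ^ a - 1 → (∀ k, 0 < k → k < a → ¬ s ∣ p ^ k - 1) → s = r)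
    (hsq : ¬ r ^ 2 ∣ p ^ a - 1) (hr : r.Prime) :
    ∃ s : ℕ, s.Prime ∧ s ∣ a ∧ ((cyclotomic a ℤ).eval (p : ℤ)).natAbs ∣ r * s := by
  set q := ((cyclotomic a ℤ).eval (p : ℤ)).natAbs with hq
  have hpos := cyclotomic_pos' a (x := (p : ℤ)) (by exact_mod_cast hp)
  have hqe : (q : ℤ) = (cyclotomic a ℤ).eval (p : ℤ) := by rw [hq, Int.natAbs_of_nonneg hpos.le]
  have hq0 : q ≠ 0 := fun h => by rw [h] at hqe; push_cast at hqe; omega
  have hqd : q ∣ p ^ a - 1 := by
    have h := Polynomial.eval_dvd (x := (p : ℤ)) (cyclotomic.dvd_X_pow_sub_one a ℤ)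
    simp only [eval_sub, eval_pow, eval_X, eval_one, ← hqe] at h
    have h1 : 1 ≤ p ^ a := Nat.one_le_pow _ _ (by omega)
    rw [show (p : ℤ) ^ a - 1 = ((p ^ a - 1 : ℕ) : ℤ) by push_cast [h1]; ring] at h
    exact_mod_cast h
  have hrest : ∀ s : ℕ, s.Prime → s ∣ q → s ≠ r →
      ∃ k m : ℕ, a = s ^ (k + 1) * m ∧ m ∣ s - 1 ∧ ¬ s ^ 2 ∣ q := by
    intro s hs hsq' hne
    haveI := Fact.mk hs
    obtain ⟨k, m, hsm, hnm⟩ := Nat.exists_eq_pow_mul_and_not_dvd (by omega : a ≠ 0) s hs.ne_one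
    haveI : NeZero (m : ZMod s) := ⟨fun h => hsm ((ZMod.natCast_eq_zero_iff _ _).1 h)⟩
    have hroot : (cyclotomic a (ZMod s)).IsRoot (p : ZMod s) := by
      have h := cyclotomic.eval_apply (p : ℤ) a (Int.castRingHom (ZMod s))
      simp only [eq_intCast, Int.cast_natCast] at h
      rw [IsRoot.def, h, ← hqe, Int.cast_natCast, ZMod.natCast_eq_zero_iff]
      exact hsq'
    rw [hnm, isRoot_cyclotomic_prime_pow_mul_iff_of_charP] at hroot
    have hm0 : 0 < m := Nat.pos_of_ne_zero fun h => hsm (h ▸ dvd_zero s)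
    rcases k with _ | k
    · exfalso
      rw [pow_zero, one_mul] at hnm
      subst hnm
      refine hne (huniq s hs ?_ fun i hi0 hi hd => ?_)
      · rw [← ZMod.natCast_eq_zero_iff, Nat.cast_sub (Nat.one_le_pow _ _ (by omega)), Nat.cast_pow,
          hroot.pow_eq_one, Nat.cast_one, sub_self]
      · rw [← ZMod.natCast_eq_zero_iff, Nat.cast_sub (Nat.one_le_pow _ _ (by omega)), Nat.cast_pow,
          Nat.cast_one, sub_eq_zero] at hd
        exact hroot.pow_ne_one_of_pos_of_lt hi0.ne' hi hd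
    have hne0 : (p : ZMod s) ≠ 0 := fun h => by
      rw [h] at hroot
      have := hroot.pow_eq_one
      rw [zero_pow hm0.ne'] at this
      exact zero_ne_one this
    have hms : m ∣ s - 1 := hroot.dvd_of_pow_eq_one _ (ZMod.pow_card_sub_one_eq_one hne0)
    refine ⟨k, m, hnm, hms, fun hs2 => ?_⟩
    have hsq2 : (s : ℤ) ^ 2 ∣ (cyclotomic a ℤ).eval (p : ℤ) := by rw [← hqe]; exact_mod_cast hs2
    set b : ℤ := (p : ℤ) ^ (s ^ k * m) with hb
    have hd : s ^ k * m ∈ a.properDivisors := by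
      refine Nat.mem_properDivisors.2 ⟨⟨s, by rw [hnm, pow_succ]; ring⟩, ?_⟩
      rw [hnm, pow_succ]
      have h1 : 0 < s ^ k * m := Nat.mul_pos (pow_pos hs.pos _) hm0
      nlinarith [hs.two_le]
    have hdiv := Polynomial.eval_dvd (x := (p : ℤ)) (X_pow_sub_one_mul_cyclotomic_dvd_X_pow_sub_one_of_dvd ℤ hd)
    simp only [eval_mul, eval_sub, eval_pow, eval_X, eval_one] at hdiv
    rw [show (p : ℤ) ^ a = b ^ s by rw [hb, ← pow_mul]; congr 1; rw [hnm, pow_succ]; ring, ← hb,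
      ← mul_geom_sum b s] at hdiv
    have hb1 : b - 1 ≠ 0 := by
      have : 1 < b := one_lt_pow₀ (by exact_mod_cast hp) (Nat.mul_ne_zero (pow_ne_zero _ hs.pos.ne') hm0.ne')
      omega
    have hS : (s : ℤ) ^ 2 ∣ ∑ i ∈ Finset.range s, b ^ i := hsq2.trans ((mul_dvd_mul_iff_left hb1).1 hdiv)
    obtain ⟨t, ht⟩ : (s : ℤ) ∣ b - 1 := by
      rw [← ZMod.intCast_zmod_eq_zero_iff_dvd, hb]
      push_cast
      rw [mul_comm, pow_mul, hroot.pow_eq_one, one_pow, sub_self]
    by_cases hs2' : s = 2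
    · subst hs2'
      rw [Finset.sum_range_succ, Finset.sum_range_one, pow_zero, pow_one] at hS
      obtain rfl : m = 1 := Nat.dvd_one.1 hms
      obtain ⟨k', rfl⟩ : ∃ k', k = k' + 1 := ⟨k - 1, by
        rcases k with _ | k
        · norm_num at hnm; omega
        · omega⟩
      set c : ℤ := (p : ℤ) ^ (2 ^ k' * 1)
      have hc : b = c * c := by rw [hb, ← pow_add]; congr 1; rw [pow_succ]; ring
      obtain ⟨j, hj⟩ : ∃ j, c = 2 * j + 1 := by
        rcases Int.even_or_odd c with ⟨j, hj⟩ | ⟨j, hj⟩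
        · exfalso
          rw [hc, hj] at ht
          obtain ⟨u, hu⟩ : (2 : ℤ) ∣ (j + j) * (j + j) := ⟨j * (j + j), by ring⟩
          push_cast at ht
          omega
        · exact ⟨j, hj⟩
      obtain ⟨u, hu⟩ := hS
      rw [hc, hj] at hu
      push_cast at hu
      have : (1 : ℤ) + (2 * j + 1) * (2 * j + 1) = 2 + 4 * (j * j + j) := by ring
      omega
    · have hodd : Odd s := hs.odd_of_ne_two hs2'
      have h := odd_sq_dvd_geom_sum₂_sub (R := ℤ) (p := s) 1 t hodd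
      simp only [one_pow, mul_one] at h
      rw [show (1 : ℤ) + s * t = b by rw [← ht]; ring] at h
      have h5 : (s : ℤ) ^ 2 ∣ (s : ℤ) := by simpa using dvd_sub hS h
      have h6 := Int.le_of_dvd (by exact_mod_cast hs.pos) h5
      nlinarith [hs.two_le]
  -- all such primes are equal
  obtain ⟨s₀, hs₀, hs₀a, hall⟩ : ∃ s : ℕ, s.Prime ∧ s ∣ a ∧ ∀ t : ℕ, t.Prime → t ∣ q → t = r ∨ t = s := by
    by_cases h : ∀ t : ℕ, t.Prime → t ∣ q → t = r
    · exact ⟨_, Nat.minFac_prime (by omega : a ≠ 1), Nat.minFac_dvd a, fun t ht htq => Or.inl (h t ht htq)⟩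
    push Not at h
    obtain ⟨s, hs, hsq', hsr⟩ := h
    obtain ⟨k, m, hnm, hms, -⟩ := hrest s hs hsq' hsr
    refine ⟨s, hs, hnm ▸ Dvd.dvd.mul_right (dvd_pow_self s k.succ_ne_zero) m, fun t ht htq => ?_⟩
    by_contra hne
    push Not at hne
    obtain ⟨k', m', hnm', hms', -⟩ := hrest t ht htq hne.1
    have h1 : t ∣ m := ((Nat.Coprime.pow_right (k + 1) ((Nat.coprime_primes ht hs).2 hne.2))).dvd_of_dvd_mul_left
      (hnm ▸ (hnm' ▸ Dvd.dvd.mul_right (dvd_pow_self t k'.succ_ne_zero) m' : t ∣ a))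
    have h2 : s ∣ m' := ((Nat.Coprime.pow_right (k' + 1) ((Nat.coprime_primes hs ht).2 (Ne.symm hne.2)))).dvd_of_dvd_mul_left
      (hnm' ▸ (hnm ▸ Dvd.dvd.mul_right (dvd_pow_self s k.succ_ne_zero) m : s ∣ a))
    have h3 := Nat.le_of_dvd (by have := hs.two_le; omega) (h1.trans hms)
    have h4 := Nat.le_of_dvd (by have := ht.two_le; omega) (h2.trans hms')
    have := hs.two_le
    omega
  refine ⟨s₀, hs₀, hs₀a, ?_⟩
  refine (Nat.dvd_iff_prime_pow_dvd_dvd _ _).2 fun t j ht htj => ?_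
  rcases j with _ | j
  · simp
  have htq : t ∣ q := (dvd_pow_self t j.succ_ne_zero).trans htj
  have hj : j = 0 := by
    by_contra hj
    have h2 : t ^ 2 ∣ q := (pow_dvd_pow t (by omega)).trans htj
    by_cases htr : t = r
    · exact hsq (htr ▸ h2.trans hqd)
    · obtain ⟨_, _, -, -, hh⟩ := hrest t ht htq htr
      exact hh h2
  rw [hj, pow_one]
  rcases hall t ht htq with rfl | rfl
  · exact dvd_mul_right _ _
  · exact dvd_mul_left _ _

/-- Only `p = 3` and `a = 4` are left. -/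
theorem four_three_of_dvd {p a s : ℕ} (hp : 3 ≤ p) (h4 : 4 ∣ a) (ha : 0 < a) (hr : (a + 1).Prime) (hs : s.Prime) (hsa : s ∣ a)
    (hd : ((cyclotomic a ℤ).eval (p : ℤ)).natAbs ∣ (a + 1) * s) : a = 4 ∧ p = 3 := by
  set q := ((cyclotomic a ℤ).eval (p : ℤ)).natAbs
  have hpos := cyclotomic_pos' a (x := (p : ℤ)) (by exact_mod_cast (by omega : 1 < p))
  have hqe : (q : ℤ) = (cyclotomic a ℤ).eval (p : ℤ) := Int.natAbs_of_nonneg hpos.le
  have hle : q ≤ (a + 1) * s := Nat.le_of_dvd (Nat.mul_pos (by omega) hs.pos) hd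
  have hsle : s ≤ a := Nat.le_of_dvd ha hsa
  obtain ⟨e, o, ho2, hao⟩ := Nat.exists_eq_pow_mul_and_not_dvd (by omega : a ≠ 0) 2 (by norm_num)
  have hodd : Odd o := Nat.odd_iff.2 (by omega)
  have he : 2 ≤ e := by
    by_contra he
    interval_cases e <;> omega
  obtain ⟨i, rfl⟩ : ∃ i, e = i + 1 := ⟨e - 1, by omega⟩
  have hev : (q : ℤ) = (cyclotomic (2 * o) ℤ).eval (((p ^ 2 ^ i : ℕ) : ℤ)) := by
    rw [hqe, show a = 2 * o * 2 ^ i by rw [hao, pow_succ]; ring,
      Cfsg.Lib.Zsigmondy.eval_mul_pow Nat.prime_two (dvd_mul_right 2 o), Nat.cast_pow]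
  rcases eq_or_ne o 1 with rfl | ho1
  · rw [mul_one] at hev hao
    rw [cyclotomic_two, eval_add, eval_X, eval_one] at hev
    have hqp : q = p ^ 2 ^ i + 1 := by exact_mod_cast hev
    obtain rfl : s = 2 := (Nat.prime_dvd_prime_iff_eq hs Nat.prime_two).1 (hs.dvd_of_dvd_pow (hao ▸ hsa))
    rcases (show i = 1 ∨ i = 2 ∨ 3 ≤ i by omega) with rfl | rfl | hi
    · norm_num at hao hqp
      subst hao
      refine ⟨rfl, ?_⟩
      have : p ≤ 3 := by nlinarith
      omega
    · norm_num at hao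
      subst hao
      norm_num at hr
    · exfalso
      have h8 : 8 ≤ 2 ^ i := le_trans (by norm_num) (Nat.pow_le_pow_right (by norm_num) hi)
      have h1 := three_pow_gt _ h8
      have h2 : 3 ^ 2 ^ i ≤ p ^ 2 ^ i := Nat.pow_le_pow_left hp _
      rw [hao, pow_succ] at hle hsle
      nlinarith
  exfalso
  have ho3 : 3 ≤ o := by obtain ⟨c, rfl⟩ := hodd; omega
  have hu : 2 ≤ o.totient := by
    have h1 := Nat.totient_pos.2 (by omega : 0 < o)
    obtain ⟨c, hc⟩ := Nat.totient_even (by omega : 2 < o)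
    omega
  set u := o.totient with hudef
  obtain ⟨i, rfl⟩ : ∃ j, i = j + 1 := ⟨i - 1, by omega⟩
  set w := u * 2 ^ i with hw
  have hlow : 8 ^ w < q := by
    have h := Cfsg.Lib.Zsigmondy.cyc_lower (n := 2 * o) (x := p ^ 2 ^ (i + 1)) (by omega)
      (le_trans (by omega : 2 ≤ p) (Nat.le_self_pow (by positivity) p))
    rw [← hev, Nat.totient_mul ((Nat.Prime.coprime_iff_not_dvd Nat.prime_two).2 ho2), Nat.totient_two, one_mul] at h
    have h1 : 8 ^ 2 ^ i ≤ p ^ 2 ^ (i + 1) - 1 := by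
      have h2 : 9 ^ 2 ^ i ≤ p ^ 2 ^ (i + 1) := by
        rw [pow_succ, mul_comm, pow_mul]; exact Nat.pow_le_pow_left (by nlinarith) _
      have h3 : 8 ^ 2 ^ i < 9 ^ 2 ^ i := Nat.pow_lt_pow_left (by norm_num) (by positivity)
      omega
    have h4 : ((p ^ 2 ^ (i + 1) : ℕ) : ℤ) - 1 = ((p ^ 2 ^ (i + 1) - 1 : ℕ) : ℤ) := by
      rw [Nat.cast_sub (Nat.one_le_pow _ _ (by omega))]; rfl
    rw [h4, ← hudef] at h
    calc 8 ^ w = (8 ^ 2 ^ i) ^ u := by rw [hw, ← pow_mul, mul_comm]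
      _ ≤ (p ^ 2 ^ (i + 1) - 1) ^ u := Nat.pow_le_pow_left h1 u
      _ < q := by exact_mod_cast h
  have hou : o ≤ u ^ 2 := le_totient_sq o hodd
  have ha4 : a = 4 * 2 ^ i * o := by rw [hao, pow_succ, pow_succ]; ring
  have hi0 : 1 ≤ 2 ^ i := Nat.one_le_two_pow
  have haw : a ≤ 4 * w ^ 2 := by
    rw [ha4, hw]
    calc 4 * 2 ^ i * o ≤ 4 * 2 ^ i * u ^ 2 := Nat.mul_le_mul_left _ hou
      _ ≤ 4 * (2 ^ i * 2 ^ i) * u ^ 2 := Nat.mul_le_mul_right _ (Nat.mul_le_mul_left _ (Nat.le_mul_of_pos_left _ hi0))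
      _ = 4 * (u * 2 ^ i) ^ 2 := by ring
  rcases (show 5 ≤ w ∨ w ≤ 4 by omega) with h5 | h5
  · have := eight_pow_gt w h5
    have : (a + 1) * s ≤ 2 * (4 * w ^ 2) * (4 * w ^ 2) := Nat.mul_le_mul (by omega) (hsle.trans haw)
    nlinarith
  have hi : i ≤ 1 := by
    by_contra h
    have : 4 ≤ 2 ^ i := le_trans (by norm_num) (Nat.pow_le_pow_right (by norm_num) (by omega : 2 ≤ i))
    nlinarith
  have ho16 : o ≤ 16 := by nlinarith
  have hu4 : u ≤ 4 := le_trans (Nat.le_mul_of_pos_right _ (by omega)) h5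
  have h35 : o = 3 ∨ o = 5 := by
    have : ∀ c : ℕ, c < 17 → 3 ≤ c → c % 2 = 1 → c.totient ≤ 4 → c = 3 ∨ c = 5 := by decide
    exact this o (by omega) ho3 (Nat.odd_iff.1 hodd) hu4
  have ht3 : Nat.totient 3 = 2 := by decide
  have ht5 : Nat.totient 5 = 4 := by decide
  rcases h35 with rfl | rfl <;> interval_cases i
  · -- `a = 12`
    norm_num at ha4 hlow hev
    subst ha4
    have hs' : s ≤ 3 := by
      have := (Nat.mem_primeFactors.2 ⟨hs, hsa, by norm_num⟩ : s ∈ Nat.primeFactors 12)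
      rw [show Nat.primeFactors 12 = {2, 3} by decide +kernel] at this
      simp at this
      omega
    have : 8 ^ 2 < q := by rw [hudef, ht3] at hw; rw [hw] at hlow; simpa using hlow
    nlinarith
  · norm_num at ha4; subst ha4; norm_num at hr
  · norm_num at ha4; subst ha4; norm_num at hr
  · rw [hudef, ht5] at hw; norm_num at hw; omega

end Cfsg.Lib.Blocks.ThreeChars
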