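import Mathlib
import Cfsg.Agent.Blocks.ThreeChars.Irred

/-!
# Transitive linear groups with few classes of cyclic centraliser: small dimensions
-/

set_option autoImplicit false
set_option linter.unusedSectionVars false
set_option linter.style.haveILetI false

namespace Cfsg.Lib.Blocks.ThreeChars

open Polynomial

universe u v

/-- Any two non-trivial elements with cyclic centraliser are conjugate. -/
def GoodConj (E : Type u) [Group E] : Prop :=
  ∀ y z : E, y ≠ 1 → z ≠ 1 → IsCyclic (Subgroup.centralizer ({y} : Set E)) →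
    IsCyclic (Subgroup.centralizer ({z} : Set E)) → IsConj y z

section Group

variable {E : Type u} [Group E] [Finite E]

/-- The size of a class. -/
theorem ncard_isConj (z : E) :
    {g | IsConj z g}.ncard * Nat.card (Subgroup.centralizer ({z} : Set E)) = Nat.card E := by
  rw [← (Subgroup.centralizer ({z} : Set E)).index_mul_card]
  congr 1
  refine Eq.trans ?_ ((congrArg Subgroup.index (Subgroup.centralizer_eq_comap_stabilizer z)).trans
    (Subgroup.index_comap_of_surjective _ (fun g => ⟨ConjAct.ofConjAct g, rfl⟩))).symm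
  rw [MulAction.index_stabilizer]
  congr 1
  ext g
  rw [ConjAct.mem_orbit_conjAct, isConj_comm]
  rfl

/-- Conjugate elements have the same order. -/
theorem orderOf_isConj {y z : E} (h : IsConj y z) : orderOf y = orderOf z := by
  obtain ⟨c, rfl⟩ := isConj_iff.1 h
  exact (MulEquiv.orderOf_eq (MulAut.conj c) y).symm

/-- A cyclic centraliser is generated by the element. -/
theorem centralizer_eq_zpowers (hgood : GoodConj E) {x : E} (hx : x ≠ 1)
    (hc : IsCyclic (Subgroup.centralizer ({x} : Set E))) :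
    Subgroup.centralizer ({x} : Set E) = Subgroup.zpowers x := by
  have hxm : x ∈ Subgroup.centralizer ({x} : Set E) := Subgroup.mem_centralizer_singleton_iff.2 rfl
  obtain ⟨⟨w, hw⟩, hgen⟩ := hc.exists_generator
  obtain ⟨k, hk⟩ := Subgroup.mem_zpowers_iff.1 (hgen ⟨x, hxm⟩)
  have hkx : w ^ k = x := congrArg Subtype.val hk
  have hCw : Subgroup.centralizer ({w} : Set E) = Subgroup.centralizer ({x} : Set E) := by
    ext g
    rw [Subgroup.mem_centralizer_singleton_iff, Subgroup.mem_centralizer_singleton_iff]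
    constructor
    · intro h
      rw [← hkx]
      exact ((show Commute g w from h).zpow_right k).eq
    · intro h
      obtain ⟨m, hm⟩ := Subgroup.mem_zpowers_iff.1 (hgen ⟨g, Subgroup.mem_centralizer_singleton_iff.2 h⟩)
      have hmg : w ^ m = g := congrArg Subtype.val hm
      rw [← hmg]
      exact ((Commute.refl w).zpow_left m).eq
  have hw1 : w ≠ 1 := fun h => hx (by rw [← hkx, h, one_zpow])
  have hord := orderOf_isConj (hgood w x hw1 hx (by rw [hCw]; exact hc) hc)
  have htop : Subgroup.centralizer ({x} : Set E) = Subgroup.zpowers w := by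
    refine le_antisymm (fun g hg => ?_) (Subgroup.zpowers_le.2 hw)
    obtain ⟨m, hm⟩ := Subgroup.mem_zpowers_iff.1 (hgen ⟨g, hg⟩)
    exact Subgroup.mem_zpowers_iff.2 ⟨m, congrArg Subtype.val hm⟩
  refine (Subgroup.eq_of_le_of_card_ge (Subgroup.zpowers_le.2 hxm) ?_).symm
  rw [htop, Nat.card_zpowers, Nat.card_zpowers, hord]

/-- With such an element of odd prime order in a group of even order the centre is trivial. -/
theorem central_eq_one (hgood : GoodConj E) {x : E} {r : ℕ} (hr : r.Prime) (hr2 : r ≠ 2) (hx : orderOf x = r)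
    (hc : IsCyclic (Subgroup.centralizer ({x} : Set E))) (h2 : 2 ∣ Nat.card E) {z : E}
    (hz : ∀ g : E, g * z = z * g) : z = 1 := by
  by_contra hz1
  have hx1 : x ≠ 1 := fun h => by rw [h, orderOf_one] at hx; exact hr.one_lt.ne hx
  have hC := centralizer_eq_zpowers hgood hx1 hc
  have hzx : z ∈ Subgroup.zpowers x := by
    rw [← hC, Subgroup.mem_centralizer_singleton_iff]; exact (hz x).symm
  have heq : Subgroup.zpowers z = Subgroup.zpowers x := by
    refine Subgroup.eq_of_le_of_card_ge (Subgroup.zpowers_le.2 hzx) ?_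
    have hd : orderOf z ∣ r := by
      rw [← Nat.card_zpowers, ← hx, ← Nat.card_zpowers]
      exact Subgroup.card_dvd_of_le (Subgroup.zpowers_le.2 hzx)
    rw [Nat.card_zpowers, Nat.card_zpowers, hx,
      (hr.eq_one_or_self_of_dvd _ hd).resolve_left fun h => hz1 (orderOf_eq_one_iff.1 h)]
  obtain ⟨m, hm⟩ := Subgroup.mem_zpowers_iff.1 (heq ▸ Subgroup.mem_zpowers x : x ∈ Subgroup.zpowers z)
  have htop : Subgroup.zpowers x = ⊤ := by
    rw [eq_top_iff, ← hC]
    intro g _
    rw [Subgroup.mem_centralizer_singleton_iff, ← hm]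
    exact ((show Commute g z from hz g).zpow_right m).eq
  rw [← Subgroup.card_top, ← htop, Nat.card_zpowers, hx] at h2
  exact hr2 ((Nat.prime_dvd_prime_iff_eq Nat.prime_two hr).1 h2).symm

end Group

variable {p : ℕ} [hp : Fact p.Prime] {V : Type v} [AddCommGroup V] [Module (ZMod p) V] [Finite V]
  {E : Type u} [Group E] [Finite E] (ρ : E →* Module.End (ZMod p) V)

theorem rho_ne_zero (g : E) {v : V} (hv : v ≠ 0) : ρ g v ≠ 0 := fun h => hv (by
  have e : ρ g⁻¹ (ρ g v) = v := by
    rw [← Module.End.mul_apply, ← map_mul, inv_mul_cancel, map_one, Module.End.one_apply]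
  rw [h, map_zero] at e
  exact e.symm)

/-- Elements acting as scalars are central. -/
theorem scalar_central (hinj : Function.Injective ρ) {z : E} {c : ZMod p} (hz : ρ z = c • 1) (g : E) :
    g * z = z * g :=
  hinj (by rw [map_mul, map_mul, hz, mul_smul_comm, smul_mul_assoc, mul_one, one_mul])

/-- The stabiliser of a non-zero vector in a transitive group. -/
theorem stab_card (htr : ∀ v w : V, v ≠ 0 → w ≠ 0 → ∃ g : E, ρ g v = w) {v : V} (hv : v ≠ 0) :
    ∃ H : Subgroup E, (∀ g, g ∈ H ↔ ρ g v = v) ∧ (Nat.card V - 1) * Nat.card H = Nat.card E := by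
  letI : MulAction E V := MulAction.compHom V ρ
  refine ⟨MulAction.stabilizer E v, fun g => Iff.rfl, ?_⟩
  rw [← (MulAction.stabilizer E v).index_mul_card, MulAction.index_stabilizer]
  congr 1
  have : MulAction.orbit E v = {(0 : V)}ᶜ := by
    ext w
    refine ⟨fun ⟨g, hg⟩ h0 => rho_ne_zero ρ g hv (hg.trans h0), fun hw => ?_⟩
    obtain ⟨g, hg⟩ := htr v w hv hw
    exact ⟨g, hg⟩
  rw [this, Set.ncard_compl, Set.ncard_singleton]

/-- An element with irreducible minimal polynomial of full degree has cyclic centraliser. -/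
theorem centralizer_cyclic_of_irr (hinj : Function.Injective ρ) {x : E}
    (hirr : Irreducible (minpoly (ZMod p) (ρ x)))
    (hdeg : (minpoly (ZMod p) (ρ x)).natDegree = Module.finrank (ZMod p) V) :
    IsCyclic (Subgroup.centralizer ({x} : Set E)) := by
  set m := minpoly (ZMod p) (ρ x) with hm
  haveI := Fact.mk hirr
  have hpoly : ∀ g : Subgroup.centralizer ({x} : Set E), ∃ f : (ZMod p)[X], ρ g = aeval (ρ x) f := fun g =>
    Cfsg.Lib.Classical.SUThree.commute_eq_aeval (ρ x) hirr.squarefree hdeg
      (by rw [← map_mul, ← map_mul, Subgroup.mem_centralizer_singleton_iff.1 g.2])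
  choose f hf using hpoly
  have hmk : ∀ a b : (ZMod p)[X], AdjoinRoot.mk m a = AdjoinRoot.mk m b ↔ aeval (ρ x) a = aeval (ρ x) b := fun a b => by
    rw [AdjoinRoot.mk_eq_mk, hm, minpoly.dvd_iff, map_sub, sub_eq_zero]
  let ψ : Subgroup.centralizer ({x} : Set E) →* AdjoinRoot m :=
    { toFun := fun g => AdjoinRoot.mk m (f g)
      map_one' := by rw [← map_one (AdjoinRoot.mk m), hmk, ← hf, map_one, OneMemClass.coe_one, map_one]
      map_mul' := fun g h => by rw [← map_mul, hmk, ← hf, map_mul, ← hf, ← hf, Subgroup.coe_mul, map_mul] }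
  exact isCyclic_of_injective_ringHom ψ fun g h e => Subtype.ext (hinj (by rw [hf, hf]; exact (hmk _ _).1 e))

theorem two_ne (hp2 : p ≠ 2) : (2 : ZMod p) ≠ 0 := fun h => hp2 (by
  have h' : ((2 : ℕ) : ZMod p) = 0 := by exact_mod_cast h
  exact (Nat.prime_dvd_prime_iff_eq hp.out Nat.prime_two).1 ((ZMod.natCast_eq_zero_iff _ _).1 h'))

theorem eq_zero_of_eq_neg_self (hp2 : p ≠ 2) {u : V} (h : u = -u) : u = 0 := by
  have h2 : (2 : ZMod p) • u = 0 := by rw [two_smul]; exact add_eq_zero_iff_eq_neg.2 h
  exact (smul_eq_zero.1 h2).resolve_left (two_ne hp2)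

/-- The two lines of a reflection. -/
theorem eigen_lines (hp2 : p ≠ 2) (hV : Module.finrank (ZMod p) V = 2) (T : Module.End (ZMod p) V)
    (hT : T * T = 1) (h1 : T ≠ 1) (h2 : T ≠ -1) :
    ∃ v w : V, T v = v ∧ T w = -w ∧ v ≠ 0 ∧ w ≠ 0 ∧
      (∀ A B : Module.End (ZMod p) V, A v = B v → A w = B w → A = B) ∧
      ∀ g : Module.End (ZMod p) V, g * T = T * g →
        (∃ a : ZMod p, g v = a • v) ∧ ∃ b : ZMod p, g w = b • w := by
  obtain ⟨v₀, hv₀⟩ : ∃ u, u + T u ≠ 0 := by
    by_contra h
    push Not at h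
    exact h2 (LinearMap.ext fun u => by
      rw [LinearMap.neg_apply, Module.End.one_apply]
      exact (neg_eq_of_add_eq_zero_right (h u)).symm)
  obtain ⟨w₀, hw₀⟩ : ∃ u, u - T u ≠ 0 := by
    by_contra h
    push Not at h
    exact h1 (LinearMap.ext fun u => by rw [Module.End.one_apply]; exact (sub_eq_zero.1 (h u)).symm)
  have hTT : ∀ u, T (T u) = u := fun u => by rw [← Module.End.mul_apply, hT, Module.End.one_apply]
  set v := v₀ + T v₀ with hv
  set w := w₀ - T w₀ with hw
  have hTv : T v = v := by rw [hv, map_add, hTT, add_comm]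
  have hTw : T w = -w := by rw [hw, map_sub, hTT, neg_sub]
  have hli : LinearIndependent (ZMod p) ![v, w] := by
    rw [LinearIndependent.pair_iff' hv₀]
    intro a ha
    have h := congrArg T ha
    rw [map_smul, hTv, hTw, ha] at h
    exact hw₀ (eq_zero_of_eq_neg_self hp2 h)
  have hspan := hli.span_eq_top_of_card_eq_finrank (by rw [Fintype.card_fin, hV])
  have hco : ∀ u : V, ∃ a b : ZMod p, a • v + b • w = u := fun u => by
    have : u ∈ Submodule.span (ZMod p) ({v, w} : Set V) := by
      rw [show ({v, w} : Set V) = Set.range ![v, w] by simp [Matrix.range_cons, Matrix.range_empty, Set.pair_comm],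
        hspan]
      trivial
    exact Submodule.mem_span_pair.1 this
  refine ⟨v, w, hTv, hTw, hv₀, hw₀, fun A B hA hB => ?_, fun g hg => ?_⟩
  · refine LinearMap.ext fun u => ?_
    obtain ⟨a, b, rfl⟩ := hco u
    rw [map_add, map_add, map_smul, map_smul, map_smul, map_smul, hA, hB]
  have hc : ∀ u, T (g u) = g (T u) := fun u => by rw [← Module.End.mul_apply, ← hg, Module.End.mul_apply]
  refine ⟨?_, ?_⟩
  · obtain ⟨a, b, hab⟩ := hco (g v)
    refine ⟨a, ?_⟩
    have h := hc v
    rw [hTv, ← hab, map_add, map_smul, map_smul, hTv, hTw] at h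
    have h' : b • w = -(b • w) := by
      have := add_left_cancel h
      rw [smul_neg] at this
      exact this.symm
    rw [← hab, eq_zero_of_eq_neg_self hp2 h', add_zero]
  · obtain ⟨a, b, hab⟩ := hco (g w)
    refine ⟨b, ?_⟩
    have h := hc w
    rw [hTw, map_neg, ← hab, map_add, map_smul, map_smul, hTv, hTw] at h
    have h' : a • v = -(a • v) := by
      rw [neg_add, smul_neg] at h
      exact add_right_cancel h
    rw [← hab, eq_zero_of_eq_neg_self hp2 h', zero_add]

/-- Without scalars a reflection has cyclic centraliser. -/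
theorem reflection_cyclic (hinj : Function.Injective ρ) (hp2 : p ≠ 2) (hV : Module.finrank (ZMod p) V = 2)
    (hcen : ∀ z : E, (∀ g, g * z = z * g) → z = 1) {t : E} (ht : t * t = 1) (h1 : t ≠ 1) :
    IsCyclic (Subgroup.centralizer ({t} : Set E)) := by
  obtain ⟨v, w, -, -, hv, hw, hext, hlines⟩ := eigen_lines hp2 hV (ρ t) (by rw [← map_mul, ht, map_one])
    (fun h => h1 (hinj (by rw [h, map_one])))
    (fun h => h1 (hcen t (scalar_central ρ hinj (c := -1) (by rw [h, neg_one_smul]))))
  have hc : ∀ g : Subgroup.centralizer ({t} : Set E),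
      (∃ a : ZMod p, ρ g v = a • v) ∧ ∃ b : ZMod p, ρ g w = b • w := fun g =>
    hlines _ (by rw [← map_mul, ← map_mul, Subgroup.mem_centralizer_singleton_iff.1 g.2])
  choose a ha using fun g => (hc g).1
  choose b hb using fun g => (hc g).2
  have hb0 : ∀ g, b g ≠ 0 := fun g h => rho_ne_zero ρ (g : E) hw (by rw [hb, h, zero_smul])
  have hA1 : a 1 = 1 := smul_left_injective _ hv (by simp only; rw [← ha, one_smul, OneMemClass.coe_one, map_one, Module.End.one_apply])
  have hB1 : b 1 = 1 := smul_left_injective _ hw (by simp only; rw [← hb, one_smul, OneMemClass.coe_one, map_one, Module.End.one_apply])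
  have hAm : ∀ g k, a (g * k) = a g * a k := fun g k => smul_left_injective _ hv (by
    simp only
    rw [← ha, Subgroup.coe_mul, map_mul, Module.End.mul_apply, ha k, map_smul, ha g, smul_smul, mul_comm])
  have hBm : ∀ g k, b (g * k) = b g * b k := fun g k => smul_left_injective _ hw (by
    simp only
    rw [← hb, Subgroup.coe_mul, map_mul, Module.End.mul_apply, hb k, map_smul, hb g, smul_smul, mul_comm])
  let ψ : Subgroup.centralizer ({t} : Set E) →* ZMod p :=
    { toFun := fun g => a g * (b g)⁻¹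
      map_one' := by rw [hA1, hB1, inv_one, mul_one]
      map_mul' := fun g k => by rw [hAm, hBm, mul_inv]; ring }
  refine isCyclic_of_injective_ringHom ψ ((injective_iff_map_eq_one ψ).2 fun g hg => Subtype.ext ?_)
  have hab : a g = b g := (mul_inv_eq_one₀ (hb0 g)).1 hg
  refine hcen _ (scalar_central ρ hinj (c := b g) (hext _ _ ?_ ?_))
  · rw [ha, hab, LinearMap.smul_apply, Module.End.one_apply]
  · rw [hb, LinearMap.smul_apply, Module.End.one_apply]

/-- Dimension two, with an odd prime dividing `p + 1`. -/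
theorem two_odd_false (hinj : Function.Injective ρ) (hgood : GoodConj E) (hp2 : p ≠ 2)
    (hV : Module.finrank (ZMod p) V = 2) (hdvd : p ^ 2 - 1 ∣ Nat.card E) {r : ℕ} (hr : r.Prime) (hr2 : r ≠ 2)
    (hrp : r ∣ p + 1) : False := by
  haveI := Fact.mk hr
  have hp3 : 3 ≤ p := by have := hp.out.two_le; omega
  have hsq : p ^ 2 - 1 = (p + 1) * (p - 1) := by
    have := Nat.sq_sub_sq p 1; rwa [one_pow] at this
  have h2 : 2 ∣ Nat.card E := by
    refine dvd_trans ?_ hdvd
    rw [hsq]
    exact Dvd.dvd.mul_left (by have := hp.out.eq_two_or_odd; omega) _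
  have hr0 : r ∣ Nat.card E := dvd_trans (hrp.trans (hsq ▸ dvd_mul_right _ _)) hdvd
  obtain ⟨x, hx⟩ := exists_prime_orderOf_dvd_card' r hr0
  have hne : r ≠ p := by
    rintro rfl
    exact hr.one_lt.ne' (Nat.dvd_one.1 ((Nat.dvd_add_right dvd_rfl).1 hrp))
  have hpm : (p : ZMod r) = -1 := by
    rw [eq_neg_iff_add_eq_zero, ← Nat.cast_one, ← Nat.cast_add, ZMod.natCast_eq_zero_iff]
    exact hrp
  have hord : orderOf (p : ZMod r) = 2 := by
    rw [hpm, orderOf_neg_one, if_neg (by rw [ZMod.ringChar_zmod_n]; exact hr2)]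
  have hcyc := centralizer_cyclic ρ hinj hx (hord.trans hV.symm) hne
  obtain ⟨t, ht⟩ := exists_prime_orderOf_dvd_card' 2 h2
  have ht1 : t ≠ 1 := fun h => by rw [h, orderOf_one] at ht; norm_num at ht
  have htc : IsCyclic (Subgroup.centralizer ({t} : Set E)) :=
    reflection_cyclic ρ hinj hp2 hV (fun z hz => central_eq_one hgood hr hr2 hx hcyc h2 hz)
      (by rw [← pow_two, ← ht, pow_orderOf_eq_one]) ht1
  have hx1 : x ≠ 1 := fun h => by rw [h, orderOf_one] at hx; exact hr.one_lt.ne hx
  have := orderOf_isConj (hgood t x ht1 hx1 htc hcyc)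
  omega

end Cfsg.Lib.Blocks.ThreeChars
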