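import Mathlib
import Cfsg.Agent.Blocks.ThreeChars.Small
import Cfsg.Agent.Blocks.AbelianSubsections
import Cfsg.Agent.Blocks.CanonicalCharacter
import Cfsg.Agent.Blocks.CoveringDefect
import Cfsg.Agent.Blocks.NormalDefectHeight
import Cfsg.Agent.Chars.Inertia

/-!
# A normal abelian defect group with one section, and the parity at two
-/

set_option autoImplicit false
set_option linter.unusedSectionVars false
set_option linter.style.haveILetI false

namespace Cfsg.Lib.Blocks.ThreeChars

open Cfsg Cfsg.Lib.Chars Cfsg.Lib.Blocks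
open scoped ComplexConjugate

universe u

local notation "C⟨" P "⟩" => Subgroup.centralizer (SetLike.coe P)

variable {G : Type u} [Group G] [Fintype G] {M : Ideal AlgInt} {p : ℕ} [hp : Fact p.Prime]
  {B : Set (IrrCharacter G)} {P : Subgroup G}

/-- A lower bound for the weight of a section. -/
theorem sectWeight_ge (hM : IsPModular p M) (K : Subgroup G) [Fintype K] (T : Finset (Set (IrrCharacter K)))
    (hT : ∀ f ∈ T, IsInducedBlock M K f B) :
    (Nat.card K : ℤ) * T.card ≤ sectWeight p M B K := by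
  classical
  rw [sectWeight_eq]
  refine mul_le_mul_of_nonneg_left ?_ (Int.natCast_nonneg _)
  refine le_trans ?_ (Finset.sum_le_sum_of_subset_of_nonneg (s := T)
    (fun f hf => Finset.mem_filter.2 ⟨(mem_blocksFinset hM).2 (hT f hf).1, hT f hf⟩) fun f _ _ => Int.natCast_nonneg _)
  rw [Finset.card_eq_sum_ones, Nat.cast_sum]
  exact Finset.sum_le_sum fun f hf => by exact_mod_cast blockRank_pos hM (hT f hf).1

theorem sectWeight_nonneg (hM : IsPModular p M) (K : Subgroup G) : 0 ≤ sectWeight p M B K := by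
  letI := Fintype.ofFinite K
  simpa using sectWeight_ge (B := B) hM K ∅ (by simp)

/-- The pair stabiliser is transitive when the regular rank is one less than the number of members. -/
theorem stab_transitive (hM : IsPModular p M) (hD : IsDefectGroup p M B P)
    {c : Set (IrrCharacter C⟨P⟩)} (hc : IsBrauerPairOf p M B P c) (hab : ∀ a ∈ P, ∀ b ∈ P, a * b = b * a)
    {T : Subgroup G} (hT : IsPairStab P c T) (hkl : (Nat.card B : ℤ) - blockRank p B = 1)
    {y y' : G} (hy : y ∈ P) (hy1 : y ≠ 1) (hy' : y' ∈ P) (hy'1 : y' ≠ 1) : ∃ t ∈ T, t * y * t⁻¹ = y' := by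
  classical
  have hcount := card_sub_rank_eq_sum hM hc.2.1
  rw [hkl, mul_one] at hcount
  -- the weight of a class met by `P`
  let cl : G → Finset G := fun z => (pElements p G).filter fun x => IsConj z x
  have hconjpair : ∀ {z : G} {f : Set (IrrCharacter C⟨Subgroup.zpowers z⟩)},
      IsBrauerPairOf p M B (Subgroup.zpowers z) f → ∀ g : G,
      IsBrauerPairOf p M B (Subgroup.zpowers (g * z * g⁻¹))
        (conjSet C⟨Subgroup.zpowers z⟩ C⟨Subgroup.zpowers (g * z * g⁻¹)⟩ g f) := by
    intro z f h g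
    let fb : ∀ y : G, Set (IrrCharacter C⟨Subgroup.zpowers y⟩) := fun y => if e : y = z then e ▸ f else ∅
    have hfb : fb z = f := by simp [fb]
    have := secMap_pair (g := g) hM fb (hfb.symm ▸ h)
    rwa [hfb] at this
  have hpair : ∀ z ∈ P, ∃ f : Set (IrrCharacter C⟨Subgroup.zpowers z⟩),
      IsBelow M P c z f ∧ IsBrauerPairOf p M B (Subgroup.zpowers z) f := fun z hz => by
    obtain ⟨f, hf⟩ := exists_below hM hc.1 hab hz
    exact ⟨f, hf, hf.pair hM hc hab hz⟩
  have hpel : ∀ {z : G}, z ∈ P → z ≠ 1 → ∀ {x : G}, IsConj z x → x ∈ pElements p G := by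
    intro z hz hz1 x hx
    rw [mem_pElements, ← orderOf_isConj hx]
    refine ⟨fun h => hz1 (by rw [h] at hx; exact isConj_one_left.1 hx), exists_orderOf_eq_of_mem hp.out hc.1.1 hz⟩
  have hcentcard : ∀ {z x : G}, IsConj z x → Nat.card C⟨Subgroup.zpowers x⟩ = Nat.card (Subgroup.centralizer ({z} : Set G)) := by
    intro z x hx
    rw [centralizer_zpowers]
    have h1 := ncard_isConj x
    have h2 := ncard_isConj z
    rw [show {g | IsConj x g} = {g | IsConj z g} from Set.ext fun g => ⟨fun h => hx.trans h, fun h => hx.symm.trans h⟩] at h1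
    exact Nat.eq_of_mul_eq_mul_left ((Set.ncard_pos (Set.toFinite _)).2 ⟨z, IsConj.refl z⟩) (h1.trans h2.symm)
  have hone : ∀ {z : G}, z ∈ P → ∀ x, IsConj z x →
      ∃ f : Set (IrrCharacter C⟨Subgroup.zpowers x⟩), IsInducedBlock M C⟨Subgroup.zpowers x⟩ f B := by
    intro z hz x hx
    obtain ⟨g, rfl⟩ := isConj_iff.1 hx
    obtain ⟨f, -, hf⟩ := hpair z hz
    letI := Fintype.ofFinite C⟨Subgroup.zpowers (g * z * g⁻¹)⟩
    exact ⟨_, ((isBrauerPairOf_iff hM B _ _).1 (hconjpair hf g)).2⟩
  have hclass : ∀ {z : G}, z ∈ P → z ≠ 1 →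
      (Nat.card G : ℤ) ≤ ∑ x ∈ cl z, sectWeight p M B (Subgroup.centralizer ({x} : Set G)) := by
    intro z hz hz1
    have hcl : (cl z).card = {g | IsConj z g}.ncard := by
      rw [← Set.ncard_coe_finset]
      congr 1
      ext x
      simp only [cl, Finset.coe_filter, Set.mem_setOf_eq]
      exact ⟨fun h => h.2, fun h => ⟨hpel hz hz1 h, h⟩⟩
    calc (Nat.card G : ℤ) = ∑ x ∈ cl z, (Nat.card (Subgroup.centralizer ({z} : Set G)) : ℤ) := by
          rw [Finset.sum_const, nsmul_eq_mul, hcl, ← ncard_isConj z]; push_cast; rfl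
      _ ≤ _ := Finset.sum_le_sum fun x hx => by
          have hx' := (Finset.mem_filter.1 hx).2
          obtain ⟨f, hf⟩ := hone hz x hx'
          letI := Fintype.ofFinite C⟨Subgroup.zpowers x⟩
          rw [← centralizer_zpowers x, ← hcentcard hx']
          simpa using sectWeight_ge hM C⟨Subgroup.zpowers x⟩ {f} (by simpa using hf)
  -- there is one class
  obtain ⟨g, hg⟩ : ∃ g : G, g * y * g⁻¹ = y' := by
    by_contra hno
    have hdisj : Disjoint (cl y) (cl y') := Finset.disjoint_left.2 fun x h1 h2 =>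
      hno (isConj_iff.1 ((Finset.mem_filter.1 h1).2.trans (Finset.mem_filter.1 h2).2.symm))
    have h2 := Finset.sum_le_sum_of_subset_of_nonneg (s := cl y ∪ cl y') (t := pElements p G)
      (f := fun x => sectWeight p M B (Subgroup.centralizer ({x} : Set G)))
      (Finset.union_subset (Finset.filter_subset _ _) (Finset.filter_subset _ _)) fun x _ _ => sectWeight_nonneg hM _
    rw [Finset.sum_union hdisj, ← hcount] at h2
    have := hclass hy hy1
    have := hclass hy' hy'1
    have : (0 : ℤ) < Nat.card G := by exact_mod_cast Nat.card_pos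
    linarith
  subst hg
  -- there is one block over `B`
  set y' := g * y * g⁻¹
  obtain ⟨f, hf, hfp⟩ := hpair y hy
  obtain ⟨f', hf', hf'p⟩ := hpair y' hy'
  letI := Fintype.ofFinite C⟨Subgroup.zpowers y'⟩
  set f₁ := conjSet C⟨Subgroup.zpowers y⟩ C⟨Subgroup.zpowers y'⟩ g f with hf₁
  have heq : f₁ = f' := by
    by_contra hne
    have h1 := sectWeight_ge hM C⟨Subgroup.zpowers y'⟩ {f₁, f'} (B := B) (by
      intro a ha
      rcases Finset.mem_insert.1 ha with rfl | ha
      · exact ((isBrauerPairOf_iff hM B _ _).1 (hconjpair hfp g)).2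
      · rw [Finset.mem_singleton.1 ha]; exact ((isBrauerPairOf_iff hM B _ _).1 hf'p).2)
    rw [Finset.card_pair hne, Nat.cast_ofNat] at h1
    have hy'cl : y' ∈ cl y' := Finset.mem_filter.2 ⟨hpel hy' hy'1 (IsConj.refl _), IsConj.refl _⟩
    have hsum : (Nat.card G : ℤ) < ∑ x ∈ cl y', sectWeight p M B (Subgroup.centralizer ({x} : Set G)) := by
      have hcl : (cl y').card = {g | IsConj y' g}.ncard := by
        rw [← Set.ncard_coe_finset]
        congr 1
        ext x
        simp only [cl, Finset.coe_filter, Set.mem_setOf_eq]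
        exact ⟨fun h => h.2, fun h => ⟨hpel hy' hy'1 h, h⟩⟩
      calc (Nat.card G : ℤ) = ∑ x ∈ cl y', (Nat.card (Subgroup.centralizer ({y'} : Set G)) : ℤ) := by
            rw [Finset.sum_const, nsmul_eq_mul, hcl, ← ncard_isConj y']; push_cast; rfl
        _ < _ := Finset.sum_lt_sum (fun x hx => by
            have hx' := (Finset.mem_filter.1 hx).2
            obtain ⟨a, ha⟩ := hone hy' x hx'
            letI := Fintype.ofFinite C⟨Subgroup.zpowers x⟩
            rw [← centralizer_zpowers x, ← hcentcard hx']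
            simpa using sectWeight_ge hM C⟨Subgroup.zpowers x⟩ {a} (by simpa using ha))
          ⟨y', hy'cl, by
            rw [← centralizer_zpowers y']
            have : (0 : ℤ) < Nat.card C⟨Subgroup.zpowers y'⟩ := by exact_mod_cast Nat.card_pos
            linarith⟩
    have h2 := Finset.sum_le_sum_of_subset_of_nonneg (s := cl y') (t := pElements p G)
      (f := fun x => sectWeight p M B (Subgroup.centralizer ({x} : Set G)))
      (Finset.filter_subset _ _) fun x _ _ => sectWeight_nonneg hM _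
    rw [← hcount] at h2
    linarith
  refine hf.fusion hM hD hc hab hT hy hy' hf' rfl ?_
  rw [← heq, hf₁, bi_conjSet (isConjSub_zpowers g y)]

/-- The two values of a character of a group on a normal subgroup. -/
theorem sum_normal (N : Subgroup G) [N.Normal] [Fintype N] (χ : IrrCharacter G) :
    ∑ n : N, (χ : G → ℂ) n = 0 ∨ ∀ n : N, (χ : G → ℂ) n = (χ : G → ℂ) 1 := by
  classical
  by_cases h : classInner (fun n : N => (χ : G → ℂ) n) ((principal N : IrrCharacter N) : N → ℂ) = 0
  · left
    simp only [classInner_def, principal, map_one, mul_one] at h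
    exact (mul_eq_zero.1 h).resolve_left (inv_ne_zero (Nat.cast_ne_zero.2 Nat.card_pos.ne'))
  · right
    obtain ⟨e, -, he⟩ := restrict_eq_mult_of_invariant N χ.2 (principal N).2
      (fun g => funext fun n => by simp [conjN, principal]) h
    intro n
    have e1 := congrFun he n
    have e2 := congrFun he 1
    simp only [Pi.smul_apply, smul_eq_mul, principal, mul_one, OneMemClass.coe_one] at e1 e2
    rw [e1, e2]

/-- All degrees of a block with normal abelian defect group have the same `p`-part. -/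
theorem deg_factorization [P.Normal] (hM : IsPModular p M) (hB : IsPBlock M B) (hD : IsDefectGroup p M B P)
    (hab : ∀ a ∈ P, ∀ b ∈ P, a * b = b * a) {χ : IrrCharacter G} (hχ : χ ∈ B) :
    (deg (χ : G → ℂ)).factorization p = P.index.factorization p := by
  classical
  have h0 := (normal_defect_comm_iff hM hB hD).1 hab χ hχ
  have hmem : (charDegree (χ : G → ℂ)).factorization p ∈
      (fun ψ : IrrCharacter G => (charDegree (ψ : G → ℂ)).factorization p) '' B := ⟨χ, hχ, rfl⟩
  have hle := Nat.sInf_le hmem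
  have hd : (Nat.card G).factorization p -
      sInf ((fun ψ : IrrCharacter G => (charDegree (ψ : G → ℂ)).factorization p) '' B) = (Nat.card P).factorization p := by
    rw [IsDefectGroup.card hM hB hD, hp.out.factorization_pow, Finsupp.single_eq_same]
    rfl
  have hG : (Nat.card G).factorization p = (Nat.card P).factorization p + P.index.factorization p := by
    rw [← P.card_mul_index, Nat.factorization_mul Nat.card_pos.ne' Subgroup.index_ne_zero_of_finite, Finsupp.add_apply]
  have hbound : (charDegree (χ : G → ℂ)).factorization p ≤ (Nat.card G).factorization p :=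
    (Nat.factorization_le_iff_dvd (deg_irr_pos χ).ne' Nat.card_pos.ne').2 (IsIrrCharacter.deg_dvd χ.2) p
  unfold blockHeight at h0
  rw [charDegree_eq_deg] at h0 hle hbound
  omega

/-- At two the regular rank cannot be two. -/
theorem two_false [P.Normal] (hM : IsPModular 2 M) (hB : IsPBlock M B) (hD : IsDefectGroup 2 M B P)
    (hab : ∀ a ∈ P, ∀ b ∈ P, a * b = b * a) (hk : Nat.card B = 3) (hP : P ≠ ⊥)
    (htr : ∀ y ∈ P, y ≠ 1 → ∀ y' ∈ P, y' ≠ 1 → IsConj y y') : False := by
  classical
  haveI : Fact (Nat.Prime 2) := ⟨Nat.prime_two⟩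
  letI := Fintype.ofFinite P
  obtain ⟨y, hy, hy1⟩ := (Subgroup.ne_bot_iff_exists_ne_one).1 hP |> fun ⟨z, hz⟩ =>
    (⟨(z : G), z.2, fun h => hz (Subtype.ext h)⟩ : ∃ y, y ∈ P ∧ y ≠ 1)
  set q := Nat.card P with hq
  have hq2 : 2 ∣ q := by
    obtain ⟨j, hj⟩ := exists_orderOf_eq_of_mem Nat.prime_two (IsDefectGroup.isPGroup hD) hy
    have h : orderOf (⟨y, hy⟩ : P) ∣ q := orderOf_dvd_natCard _
    rw [← Subgroup.orderOf_coe, Subgroup.coe_mk, hj] at h
    refine (dvd_pow_self 2 ?_).trans h
    rintro rfl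
    exact hy1 (orderOf_eq_one_iff.1 (by rw [hj, pow_zero]))
  have horth := block_orthogonality_regular hM hB (g := (1 : G)) (h := y) (by rw [orderOf_one]; norm_num) (by
    obtain ⟨j, hj⟩ := exists_orderOf_eq_of_mem Nat.prime_two (IsDefectGroup.isPGroup hD) hy
    rw [hj]
    exact dvd_pow_self 2 fun h => hy1 (orderOf_eq_one_iff.1 (by rw [hj, h, pow_zero])))
  have hval : ∀ χ : IrrCharacter G, ∃ a : ℤ, Odd a ∧
      ((q : ℂ) - 1) * (χ : G → ℂ) y = (a : ℂ) * (deg (χ : G → ℂ) : ℂ) := by
    intro χ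
    rcases sum_normal P χ with h | h
    · refine ⟨-1, by decide, ?_⟩
      rw [← Finset.add_sum_erase _ _ (Finset.mem_univ (1 : P)), Finset.sum_congr rfl (g := fun _ => (χ : G → ℂ) y)
        (fun n hn => by
          obtain ⟨g, hg⟩ := isConj_iff.1 (htr y hy hy1 n n.2 (fun h => (Finset.mem_erase.1 hn).1 (Subtype.ext h)))
          rw [← hg]
          exact isClassFunction_irr χ y g),
        Finset.sum_const, Finset.card_erase_of_mem (Finset.mem_univ _), Finset.card_univ, ← Nat.card_eq_fintype_card,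
        nsmul_eq_mul, Nat.cast_sub Nat.card_pos, OneMemClass.coe_one, irr_apply_one_eq_deg] at h
      push_cast at h ⊢
      linear_combination h
    · refine ⟨(q : ℤ) - 1, by obtain ⟨t, ht⟩ := hq2; exact ⟨(t : ℤ) - 1, by rw [ht]; push_cast; ring⟩, ?_⟩
      rw [h ⟨y, hy⟩, irr_apply_one_eq_deg]
      push_cast
      ring
  choose a ha1 ha2 using hval
  obtain ⟨χ₀, hχ₀⟩ := IsPBlock.nonempty hM hB
  set e := P.index.factorization 2
  have hdo : ∀ χ ∈ B, ∃ o : ℕ, Odd o ∧ deg ((χ : IrrCharacter G) : G → ℂ) = 2 ^ e * o := fun χ hχ =>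
    ⟨_, Nat.odd_iff.2 (Nat.two_dvd_ne_zero.1 (Nat.not_dvd_ordCompl Nat.prime_two (deg_irr_pos χ).ne')), by
      rw [show e = (deg (χ : G → ℂ)).factorization 2 from (deg_factorization hM hB hD hab hχ).symm,
        Nat.ordProj_mul_ordCompl_eq_self]⟩
  choose o ho hdeg using hdo
  set F := Finset.univ.filter (· ∈ B) with hF
  have hsum : ∑ χ ∈ F.attach, ((o χ.1 (Finset.mem_filter.1 χ.2).2 : ℤ) ^ 2 * a χ.1) = 0 := by
    have h : ∀ χ ∈ F, (χ : G → ℂ) 1 * conj ((χ : G → ℂ) y) * ((q : ℂ) - 1) =
        (a χ : ℂ) * (deg (χ : G → ℂ) : ℂ) ^ 2 := fun χ _ => by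
      have := congrArg conj (ha2 χ)
      rw [map_mul, map_mul, map_sub, map_one, Complex.conj_natCast, map_intCast, Complex.conj_natCast] at this
      rw [irr_apply_one_eq_deg]
      linear_combination (deg (χ : G → ℂ) : ℂ) * this
    have h0 : ∑ χ ∈ F, (a χ : ℂ) * (deg (χ : G → ℂ) : ℂ) ^ 2 = 0 := by
      rw [← Finset.sum_congr rfl h, ← Finset.sum_mul, horth, zero_mul]
    rw [← Finset.sum_attach, Finset.sum_congr rfl fun χ _ => by rw [hdeg χ.1 (Finset.mem_filter.1 χ.2).2]] at h0
    apply Int.cast_injective (α := ℂ)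
    apply mul_left_cancel₀ (pow_ne_zero 2 (pow_ne_zero e (two_ne_zero : (2 : ℂ) ≠ 0)))
    rw [Int.cast_zero, mul_zero, ← h0, Int.cast_sum, Finset.mul_sum]
    refine Finset.sum_congr rfl fun χ _ => ?_
    push_cast
    ring
  have hmod := congrArg (fun z : ℤ => (z : ZMod 2)) hsum
  simp only [Int.cast_sum, Int.cast_zero, Int.cast_mul, Int.cast_pow, Int.cast_natCast] at hmod
  rw [Finset.sum_congr rfl (g := fun _ => (1 : ZMod 2)) (fun χ _ => by
    rw [ZMod.natCast_eq_one_iff_odd.2 (ho _ _), ZMod.intCast_eq_one_iff_odd.2 (ha1 _)]; rfl),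
    Finset.sum_const, Finset.card_attach, hF, ← natCard_eq_filter, hk] at hmod
  rw [nsmul_one] at hmod
  exact one_ne_zero (α := ZMod 2) hmod

end Cfsg.Lib.Blocks.ThreeChars
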