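import Mathlib
import Cfsg.Agent.Blocks.ThreeChars.Fusion

/-!
# The canonical character of a normal abelian defect group and the members over it
-/

set_option autoImplicit false
set_option linter.unusedSectionVars false
set_option linter.style.haveILetI false

namespace Cfsg.Lib.Blocks.ThreeChars

open Cfsg Cfsg.Lib.Chars Cfsg.Lib.Blocks
open scoped ComplexConjugate

universe u

local notation "C⟨" P "⟩" => Subgroup.centralizer (SetLike.coe P)

variable {G : Type u} [Group G] [Fintype G] {M : Ideal AlgInt} {p : ℕ} [hp : Fact p.Prime]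
  {B : Set (IrrCharacter G)} {P : Subgroup G}

/-- The canonical character of the centraliser and its properties. -/
theorem exists_theta [P.Normal] [C⟨P⟩.Normal] [Fintype C⟨P⟩] (hM : IsPModular p M) (hD : IsDefectGroup p M B P)
    (hab : ∀ a ∈ P, ∀ b ∈ P, a * b = b * a) {c : Set (IrrCharacter C⟨P⟩)}
    (hc : IsBrauerPairOf p M B P c) {T : Subgroup G} (hT : IsPairStab P c T) :
    ∃ θ : IrrCharacter C⟨P⟩, θ ∈ c ∧ T ≤ inertia C⟨P⟩ (θ : C⟨P⟩ → ℂ) ∧
      (∀ x : C⟨P⟩, (x : G) ∈ P → (θ : C⟨P⟩ → ℂ) x = (θ : C⟨P⟩ → ℂ) 1) ∧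
      (deg (θ : C⟨P⟩ → ℂ)).factorization p = (P.relIndex C⟨P⟩).factorization p := by
  classical
  have hPC : P ≤ C⟨P⟩ := fun a ha => Subgroup.mem_centralizer_iff.2 fun b hb => hab b hb a ha
  set P' := P.subgroupOf C⟨P⟩ with hP'
  haveI : P'.Normal := Subgroup.Normal.subgroupOf inferInstance _
  have hP'p : IsPGroup p P' := hc.1.1.comap_of_injective _ (Subgroup.subtype_injective _)
  have htop : P' ⊔ Subgroup.centralizer (P' : Set C⟨P⟩) = ⊤ := by
    rw [eq_top_iff]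
    exact fun x _ => Subgroup.mem_sup_right (Subgroup.mem_centralizer_iff.2 fun y hy =>
      Subtype.ext (Subgroup.mem_centralizer_iff.1 x.2 y hy))
  obtain ⟨D, hDc⟩ := exists_defectGroup hM hc.1.2
  have hDP : D = P' := by
    have h := defectGroup_centralizer_of_maximal hM (isMaximal_of_isDefectGroup hM hc hD) hDc
    rw [inf_eq_left.2 hPC] at h
    exact Subgroup.map_injective (Subgroup.subtype_injective _) (h.trans
      (Subgroup.map_subgroupOf_eq_of_le hPC).symm)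
  obtain ⟨φ, hφc, hφd, huniq⟩ := exists_canonical hM hP'p htop hc.1.2 (hDP ▸ hDc)
  have htriv : ∀ x : C⟨P⟩, (x : G) ∈ P → (inflate P' φ : C⟨P⟩ → ℂ) x = (inflate P' φ : C⟨P⟩ → ℂ) 1 := fun x hx => by
    rw [inflate_val, inflate_val, (QuotientGroup.eq_one_iff x).2 (show x ∈ P' from hx), QuotientGroup.mk_one]
  refine ⟨inflate P' φ, hφc, fun t ht => ?_, htriv, ?_⟩
  · refine mem_inertia.2 ?_
    have hst : cjIrr C⟨P⟩ t '' c = c := by
      have h := ((hT t⁻¹).1 (T.inv_mem ht)).2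
      rwa [stabilizesBlock_iff_cjIrr hM hc.1.2, inv_inv] at h
    set χ := cjIrr C⟨P⟩ t (inflate P' φ) with hχ
    have hχc : χ ∈ c := hst ▸ Set.mem_image_of_mem _ hφc
    have hker : ∀ k ∈ (QuotientGroup.mk' P').ker, (χ : C⟨P⟩ → ℂ) k = (χ : C⟨P⟩ → ℂ) 1 := fun k hk => by
      rw [QuotientGroup.ker_mk'] at hk
      rw [hχ, cjIrr_val]
      show (inflate P' φ : C⟨P⟩ → ℂ) _ = (inflate P' φ : C⟨P⟩ → ℂ) _
      rw [htriv _ (‹P.Normal›.conj_mem _ (Subgroup.mem_subgroupOf.1 hk) t)]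
      exact congrArg _ (Subtype.ext (by simp))
    obtain ⟨f, hf, hfχ⟩ := exists_factor _ (QuotientGroup.mk'_surjective P') (isCharacter_of_irr χ.2) hker
    have hfi : Cfsg.IsIrrCharacter (C⟨P⟩ ⧸ P') f :=
      IsIrrCharacter.descend hf _ (QuotientGroup.mk'_surjective P') (hfχ ▸ χ.2)
    have heq : inflate P' ⟨f, hfi⟩ = χ := Subtype.ext hfχ.symm
    have := huniq ⟨f, hfi⟩ (heq.symm ▸ hχc)
    rw [this] at heq
    exact (cjIrr_val _ t (inflate P' φ)).symm.trans (congrArg Subtype.val heq.symm)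
  · rw [show deg (inflate P' φ : C⟨P⟩ → ℂ) = deg (φ : C⟨P⟩ ⧸ P' → ℂ) from Nat.cast_injective (R := ℂ) (by
        rw [← irr_apply_one_eq_deg, ← irr_apply_one_eq_deg, inflate_val, QuotientGroup.mk_one]), hφd]
    rfl

variable [P.Normal] [C⟨P⟩.Normal] [Fintype C⟨P⟩]

/-- The characters over the canonical character lie in the block. -/
theorem mem_of_over (hM : IsPModular p M) (hD : IsDefectGroup p M B P) {c : Set (IrrCharacter C⟨P⟩)}
    (hc : IsBrauerPairOf p M B P c) {θ : IrrCharacter C⟨P⟩} (hθ : θ ∈ c) {χ : IrrCharacter G}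
    (h : classInner (fun n : C⟨P⟩ => (χ : G → ℂ) n) (θ : C⟨P⟩ → ℂ) ≠ 0) : χ ∈ B := by
  classical
  have hB := hc.2.1
  have hind := ((isBrauerPairOf_iff hM B P c).1 hc).2
  obtain ⟨φ, hφ⟩ := IsPBlock.nonempty hM hB
  have hs : SuppOn C⟨P⟩ (blockElem B) := fun g hg => by
    rw [fn_blockElem]
    exact blockCoeff_eq_zero_of_not_mem_centralizer hM hc.1.1 hB hg
  have h' := res_omega_resElem_of_induced hM C⟨P⟩ hind hθ hφ (isCentralFn_blockElem B) (integral_blockElem hM hB)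
  rw [← omega_eq_of_constituent C⟨P⟩ (isCentralFn_blockElem B) hs χ θ h, omega_blockElem, omega_blockElem,
    if_pos hφ] at h'
  by_contra hn
  rw [if_neg hn, res_one, res_zero] at h'
  exact zero_ne_one h'

/-- The characters over the canonical character are trivial on `P`. -/
theorem over_trivial (hab : ∀ a ∈ P, ∀ b ∈ P, a * b = b * a) {θ : IrrCharacter C⟨P⟩}
    (htriv : ∀ x : C⟨P⟩, (x : G) ∈ P → (θ : C⟨P⟩ → ℂ) x = (θ : C⟨P⟩ → ℂ) 1) {χ : IrrCharacter G}
    (h : classInner (fun n : C⟨P⟩ => (χ : G → ℂ) n) (θ : C⟨P⟩ → ℂ) ≠ 0) {x : G} (hx : x ∈ P) :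
    (χ : G → ℂ) x = (χ : G → ℂ) 1 := by
  classical
  have hxC : x ∈ C⟨P⟩ := Subgroup.mem_centralizer_iff.2 fun b hb => hab b hb x hx
  have hcl := clifford C⟨P⟩ χ.2 θ.2 h
  have e1 := congrFun hcl ⟨x, hxC⟩
  have e2 := congrFun hcl 1
  simp only [Pi.smul_apply, Finset.sum_apply, smul_eq_mul, OneMemClass.coe_one] at e1 e2
  rw [e1, e2]
  congr 1
  refine Finset.sum_congr rfl fun ψ hψ => ?_
  obtain ⟨g, rfl⟩ := (mem_conjOrbit C⟨P⟩).1 hψ
  show (θ : C⟨P⟩ → ℂ) _ = (θ : C⟨P⟩ → ℂ) _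
  rw [htriv _ (‹P.Normal›.conj_mem x hx g)]
  exact congrArg _ (Subtype.ext (by simp))

/-- The members of a block that are trivial on `P` are no more than the regular rank. -/
theorem card_trivial_le (hM : IsPModular p M) (hD : IsDefectGroup p M B P) (hB : IsPBlock M B)
    (hab : ∀ a ∈ P, ∀ b ∈ P, a * b = b * a) (S : Finset (IrrCharacter G)) (hSB : ∀ χ ∈ S, χ ∈ B)
    (hStriv : ∀ χ ∈ S, ∀ x ∈ P, (χ : G → ℂ) x = (χ : G → ℂ) 1) : S.card ≤ blockRank p B := by
  classical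
  letI := Fintype.ofFinite (G ⧸ P)
  have hdesc : ∀ χ ∈ S, ∃ φ : IrrCharacter (G ⧸ P), inflate P φ = χ := by
    intro χ hχ
    obtain ⟨f, hf, hfχ⟩ := exists_factor _ (QuotientGroup.mk'_surjective P) (isCharacter_of_irr χ.2)
      (fun k hk => hStriv χ hχ k (by rwa [QuotientGroup.ker_mk'] at hk))
    exact ⟨⟨f, IsIrrCharacter.descend hf _ (QuotientGroup.mk'_surjective P) (hfχ ▸ χ.2)⟩, Subtype.ext hfχ.symm⟩
  choose φ hφ using hdesc
  let F : S → G → ℂ := fun χ => pRegularPart p ((χ : IrrCharacter G) : G → ℂ)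
  have hli : LinearIndependent ℂ F := by
    rw [Fintype.linearIndependent_iff]
    intro a ha
    have hchar : LinearIndependent ℂ (fun χ : S => ((χ : IrrCharacter G) : G → ℂ)) :=
      (linearIndependent_irr (G := G)).comp _ Subtype.val_injective
    refine Fintype.linearIndependent_iff.1 hchar a (funext fun g => ?_)
    rw [Finset.sum_apply, Pi.zero_apply]
    have hdz : ∀ χ : S, p ∣ orderOf (g : G ⧸ P) → ((χ : IrrCharacter G) : G → ℂ) g = 0 := fun χ hg => by
      rw [← hφ χ.1 χ.2, inflate_val]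
      refine eq_zero_of_defect_zero (φ χ.1 χ.2).2 hp.out (n := (Nat.card (G ⧸ P)).factorization p)
        (Nat.ordProj_dvd _ _) (Nat.pow_succ_factorization_not_dvd Nat.card_pos.ne' hp.out) ?_ hg
      refine (pow_dvd_pow p (le_of_eq ?_)).trans (Nat.ordProj_dvd _ p)
      have h := deg_factorization hM hB hD hab (hSB χ.1 χ.2)
      rw [← hφ χ.1 χ.2, show deg (inflate P (φ χ.1 χ.2) : G → ℂ) = deg (φ χ.1 χ.2 : G ⧸ P → ℂ) from
        Nat.cast_injective (R := ℂ) (by rw [← irr_apply_one_eq_deg, ← irr_apply_one_eq_deg, inflate_val, QuotientGroup.mk_one])] at h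
      exact h.symm
    by_cases hg : p ∣ orderOf (g : G ⧸ P)
    · exact Finset.sum_eq_zero fun χ _ => by rw [Pi.smul_apply, hdz χ hg, smul_zero]
    · obtain ⟨y, hy, hyg⟩ := exists_regular_lift (P := P) hM hg
      have h := congrFun ha y
      rw [Finset.sum_apply, Pi.zero_apply] at h
      rw [← h]
      refine Finset.sum_congr rfl fun χ _ => ?_
      simp only [F, Pi.smul_apply, pRegularPart_apply, if_neg hy]
      rw [← hφ χ.1 χ.2, inflate_val, inflate_val, hyg]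
  rw [← Fintype.card_coe, ← finrank_span_eq_card hli]
  unfold blockRank
  haveI : Module.Finite ℂ (Submodule.span ℂ ((fun χ : IrrCharacter G => pRegularPart p (χ : G → ℂ)) '' B)) :=
    Module.Finite.span_of_finite ℂ ((Set.toFinite _).image _)
  exact Submodule.finrank_mono (Submodule.span_le.2 (by
    rintro _ ⟨χ, rfl⟩
    exact Submodule.subset_span ⟨χ.1, hSB χ.1 χ.2, rfl⟩))

/-- The norm of the induced character. -/
theorem relIndex_eq_sum_sq (θ : IrrCharacter C⟨P⟩) :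
    ∃ m : IrrCharacter G → ℕ,
      (∀ χ : IrrCharacter G, (m χ : ℂ) = classInner (fun n : C⟨P⟩ => (χ : G → ℂ) n) (θ : C⟨P⟩ → ℂ)) ∧
      C⟨P⟩.relIndex (inertia C⟨P⟩ (θ : C⟨P⟩ → ℂ)) = ∑ χ, m χ ^ 2 := by
  classical
  obtain ⟨m, hm⟩ := IsCharacter.exists_decomp (IsCharacter.indFun (G := G) (isCharacter_of_irr θ.2))
  simp only [← Nat.cast_smul_eq_nsmul ℂ] at hm
  refine ⟨m, fun χ => ?_, ?_⟩
  · rw [← frobenius_reciprocity' C⟨P⟩ (θ : C⟨P⟩ → ℂ) (isClassFunction_irr χ), ← classInner_conj_symm, hm, classInner_irrSum (fun ψ => (m ψ : ℂ)) χ, Complex.conj_natCast]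
  · have h := classInner_indFun_eq_card C⟨P⟩ θ.2 θ.2
    rw [hm, classInner_self_decomp, show Nat.card {g : G // conjN C⟨P⟩ g (θ : C⟨P⟩ → ℂ) = θ} =
      Nat.card (inertia C⟨P⟩ (θ : C⟨P⟩ → ℂ)) from rfl,
      ← Subgroup.card_mul_index (C⟨P⟩.subgroupOf (inertia C⟨P⟩ (θ : C⟨P⟩ → ℂ))),
      Nat.card_congr (Subgroup.subgroupOfEquivOfLe (le_inertia (isClassFunction_irr θ))).toEquiv, Nat.cast_mul] at h
    have h' := mul_left_cancel₀ (Nat.cast_ne_zero.2 Nat.card_pos.ne') h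
    apply Nat.cast_injective (R := ℂ)
    rw [Subgroup.relIndex, ← h']
    push_cast
    simp [pow_two]

end Cfsg.Lib.Blocks.ThreeChars
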