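import Mathlib
import Cfsg.Agent.Chars.Induced
import Cfsg.Agent.Chars.Construct

/-!
# Sums of a character over a coset of a normal subgroup

The sum over a coset is the trace of a translate of the projection on the fixed points of the normal
subgroup: it vanishes when there are no fixed points and is non-zero when they form a line.
-/

set_option autoImplicit false
set_option linter.unusedSectionVars false

namespace Cfsg.Lib.Blocks.ThreeChars

open Cfsg Cfsg.Lib.Chars
open scoped ComplexConjugate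

universe u

variable {K : Type u} [Group K] (N : Subgroup K) [N.Normal] [Fintype N]

/-- The translate of the projection on the fixed points. -/
theorem coset_sum_data {ψ : K → ℂ} (hψ : Cfsg.IsCharacter K ψ) (y : K) :
    (∑ n : N, ψ (n : K) = 0 → ∑ n : N, ψ (y * n) = 0) ∧
      (∑ n : N, ψ (n : K) = (Nat.card N : ℂ) → ∑ n : N, ψ (y * n) ≠ 0) := by
  classical
  obtain ⟨d, σ, rfl⟩ := hψ
  have hN : (Nat.card N : ℂ) ≠ 0 := Nat.cast_ne_zero.2 Nat.card_pos.ne'
  set Q : Module.End ℂ (Fin d → ℂ) := (Nat.card N : ℂ)⁻¹ • ∑ n : N, σ n with hQ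
  have hmul : ∀ m : N, σ m * Q = Q := fun m => by
    rw [hQ, mul_smul_comm, Finset.mul_sum]
    congr 1
    exact Fintype.sum_equiv (Equiv.mulLeft m) _ _ fun n => by simp [← map_mul]
  have hidem : IsIdempotentElem Q := by
    show Q * Q = Q
    conv_lhs => enter [1]; rw [hQ]
    rw [smul_mul_assoc, Finset.sum_mul, Finset.sum_congr rfl fun m _ => hmul m, Finset.sum_const, Finset.card_univ,
      ← Nat.cast_smul_eq_nsmul ℂ, ← Nat.card_eq_fintype_card, smul_smul, inv_mul_cancel₀ hN, one_smul]
  have hcomm : σ y * Q = Q * σ y := by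
    rw [hQ, mul_smul_comm, smul_mul_assoc, Finset.mul_sum, Finset.sum_mul]
    congr 1
    let e : N ≃ N :=
      { toFun := fun n => ⟨y * n * y⁻¹, (inferInstance : N.Normal).conj_mem n n.2 y⟩
        invFun := fun n => ⟨y⁻¹ * n * y, by simpa using (inferInstance : N.Normal).conj_mem n n.2 y⁻¹⟩
        left_inv := fun n => Subtype.ext (by simp [mul_assoc])
        right_inv := fun n => Subtype.ext (by simp [mul_assoc]) }
    refine Fintype.sum_equiv e _ _ fun n => ?_
    simp [e, ← map_mul, mul_assoc]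
  have htrQ : LinearMap.trace ℂ _ Q = (Nat.card N : ℂ)⁻¹ * ∑ n : N, σ.character (n : K) := by
    rw [hQ, map_smul, map_sum, smul_eq_mul]; rfl
  have htrY : LinearMap.trace ℂ _ (σ y * Q) = (Nat.card N : ℂ)⁻¹ * ∑ n : N, σ.character (y * n) := by
    rw [hQ, mul_smul_comm, Finset.mul_sum, map_smul, map_sum, smul_eq_mul]
    congr 1
    refine Finset.sum_congr rfl fun n _ => ?_
    rw [← map_mul]; rfl
  have hfin : LinearMap.trace ℂ _ Q = (Module.finrank ℂ (LinearMap.range Q) : ℂ) :=
    (LinearMap.IsProj.mk (fun x => LinearMap.mem_range_self Q x) fun x hx => by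
      obtain ⟨z, rfl⟩ := hx
      exact LinearMap.congr_fun hidem z).trace
  refine ⟨fun h => ?_, fun h => ?_⟩
  · rw [h, mul_zero, hfin, Nat.cast_eq_zero, Submodule.finrank_eq_zero, LinearMap.range_eq_bot] at htrQ
    rw [htrQ, mul_zero, map_zero, eq_comm, mul_eq_zero] at htrY
    exact htrY.resolve_left (inv_ne_zero hN)
  · rw [h, inv_mul_cancel₀ hN, hfin, Nat.cast_eq_one] at htrQ
    obtain ⟨v, hv, hspan⟩ := finrank_eq_one_iff'.1 htrQ
    obtain ⟨c, hc⟩ := hspan ⟨σ y v, by
      obtain ⟨z, hz⟩ := v.2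
      exact ⟨σ y z, by rw [← hz]; exact (LinearMap.congr_fun hcomm z).symm⟩⟩
    have hc' : c • (v : Fin d → ℂ) = σ y v := congrArg Subtype.val hc
    have hyQ : σ y * Q = c • Q := LinearMap.ext fun z => by
      obtain ⟨a, ha⟩ := hspan ⟨Q z, LinearMap.mem_range_self Q z⟩
      have ha' : a • (v : Fin d → ℂ) = Q z := congrArg Subtype.val ha
      show σ y (Q z) = c • Q z
      rw [← ha', map_smul, ← hc', smul_comm]
    have hc0 : c ≠ 0 := fun h0 => hv (Subtype.ext (by
      have h1 : σ y (v : Fin d → ℂ) = 0 := by rw [← hc', h0, zero_smul]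
      simpa [← Module.End.mul_apply, ← map_mul] using congrArg (σ y⁻¹) h1))
    intro h0
    rw [h0, mul_zero, hyQ, map_smul, smul_eq_mul, hfin, htrQ, Nat.cast_one, mul_one] at htrY
    exact hc0 htrY

variable [Fintype K] {Φ Ψ : K → ℂ} {θ : N → ℂ}

/-- Two characters with orthogonal restrictions are orthogonal on every coset. -/
theorem coset_orth (hΦ : Cfsg.IsCharacter K Φ) (hΨ : Cfsg.IsCharacter K Ψ)
    (h : Cfsg.classInner (fun n : N => Φ n) (fun n : N => Ψ n) = 0) (y : K) :
    ∑ n : N, Φ (y * n) * conj (Ψ (y * n)) = 0 := by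
  refine (coset_sum_data N (IsCharacter.mul hΦ (IsCharacter.conjugate hΨ)) y).1 ?_
  rw [classInner_def, mul_eq_zero, inv_eq_zero, Nat.cast_eq_zero, or_iff_right Nat.card_pos.ne'] at h
  exact h

/-- The norm on a coset of a character with irreducible restriction. -/
theorem coset_norm (hΦ : Cfsg.IsCharacter K Φ) (hθ : Cfsg.IsIrrCharacter N θ) (hres : ∀ n : N, Φ n = θ n) (y : K) :
    ∑ n : N, Φ (y * n) * conj (Φ (y * n)) ≠ 0 := by
  refine (coset_sum_data N (IsCharacter.mul hΦ (IsCharacter.conjugate hΦ)) y).2 ?_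
  have h := classInner_self_irr hθ
  rw [classInner_def, inv_mul_eq_one₀ (Nat.cast_ne_zero.2 Nat.card_pos.ne')] at h
  simp only [Pi.mul_apply, hres]
  exact h.symm

end Cfsg.Lib.Blocks.ThreeChars
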