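import Mathlib
import Cfsg.Agent.Blocks.ThreeChars.Coset
import Cfsg.Agent.Chars.Clifford

/-!
# Good classes bound the characters over an invariant constituent from below
-/

set_option autoImplicit false
set_option linter.unusedSectionVars false
set_option linter.style.haveILetI false

namespace Cfsg.Lib.Blocks.ThreeChars

open Cfsg Cfsg.Lib.Chars
open scoped ComplexConjugate

universe u

variable {G : Type u} [Group G] [Fintype G] (N : Subgroup G) [N.Normal] [Fintype N]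

/-- The restriction of a character of a subgroup containing `N`. -/
theorem coset_orth' {θ θ' : N → ℂ} (hθ : Cfsg.IsIrrCharacter N θ) {H : Subgroup G} (hNH : N ≤ H) {y : G} (hy : y ∈ H)
    {Φ Ψ : H → ℂ} (hΦ : Cfsg.IsCharacter H Φ) (hΦr : ∀ n : N, Φ ⟨n, hNH n.2⟩ = θ n) (hΨ : Cfsg.IsCharacter H Ψ)
    (hΨr : ∀ n : N, Ψ ⟨n, hNH n.2⟩ = θ' n) :
    (Cfsg.classInner θ θ' = 0 →
      ∑ n : N, Φ ⟨y * n, H.mul_mem hy (hNH n.2)⟩ * conj (Ψ ⟨y * n, H.mul_mem hy (hNH n.2)⟩) = 0) ∧
      ∑ n : N, Φ ⟨y * n, H.mul_mem hy (hNH n.2)⟩ * conj (Φ ⟨y * n, H.mul_mem hy (hNH n.2)⟩) ≠ 0 := by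
  letI := Fintype.ofFinite H
  haveI : (N.subgroupOf H).Normal := Subgroup.Normal.comap inferInstance H.subtype
  letI := Fintype.ofFinite (N.subgroupOf H)
  let e : N.subgroupOf H ≃* N := Subgroup.subgroupOfEquivOfLe hNH
  have hsum : ∀ f : H → ℂ, ∑ m : N.subgroupOf H, f ((⟨y, hy⟩ : H) * m) = ∑ n : N, f ⟨y * n, H.mul_mem hy (hNH n.2)⟩ :=
    fun f => Fintype.sum_equiv e.toEquiv _ _ fun m => rfl
  refine ⟨fun h => ?_, ?_⟩
  · refine (hsum fun g => Φ g * conj (Ψ g)).symm.trans (coset_orth (N.subgroupOf H) hΦ hΨ ?_ ⟨y, hy⟩)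
    rw [← h, classInner_def, classInner_def, Nat.card_congr e.toEquiv]
    congr 1
    exact Fintype.sum_equiv e.toEquiv _ _ fun m => by rw [← hΦr, ← hΨr]; rfl
  · exact fun h => coset_norm (N.subgroupOf H) hΦ (θ := fun m => θ (e m)) (IsIrrCharacter.comp_mulEquiv hθ e)
      (fun m => by rw [← hΦr]; rfl) ⟨y, hy⟩ ((hsum fun g => Φ g * conj (Φ g)).trans h)

/-- Good classes of the inertia quotient are no more than the characters over `θ`. -/
theorem card_good_le {θ : N → ℂ} (hθ : Cfsg.IsIrrCharacter N θ) (S : Finset (IrrCharacter G))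
    (hS : ∀ χ : IrrCharacter G, Cfsg.classInner (fun n : N => (χ : G → ℂ) n) θ ≠ 0 → χ ∈ S)
    {ι : Type*} [Fintype ι] (y : ι → G) (K : ι → Subgroup G) (hNK : ∀ i, N ≤ K i) (hy : ∀ i, y i ∈ K i)
    (Φ : ∀ i, K i → ℂ) (hΦ : ∀ i, Cfsg.IsCharacter (K i) (Φ i)) (hres : ∀ i (n : N), Φ i ⟨n, hNK i n.2⟩ = θ n)
    (hinv : ∀ i (x : G), conjN N x θ = θ → ∀ (n : N) (h : x⁻¹ * (y i * n) * x ∈ K i),
      (y i)⁻¹ * (x⁻¹ * (y i * n) * x) ∈ N → Φ i ⟨_, h⟩ = Φ i ⟨y i * n, mul_mem (hy i) (hNK i n.2)⟩)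
    (hnc : ∀ i j (x : G), conjN N x θ = θ → (y i)⁻¹ * (x⁻¹ * y j * x) ∈ N → i = j) :
    Fintype.card ι ≤ S.card := by
  classical
  let f : ι → G → ℂ := fun i g => if (y i)⁻¹ * g ∈ N then Cfsg.extendByZero (K i) (Φ i) g else 0
  have hf : ∀ i (n : N), f i (y i * n) = Φ i ⟨y i * n, mul_mem (hy i) (hNK i n.2)⟩ := fun i n => by
    simp only [f, inv_mul_cancel_left, SetLike.coe_mem, if_true]
    exact extendByZero_mem _ _
  have hfsum : ∀ i (h : G → ℂ), ∑ g : G, f i g * h g = ∑ n : N, f i (y i * n) * h (y i * n) := fun i h => by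
    symm
    refine Finset.sum_bij_ne_zero (fun n _ _ => y i * n) (fun _ _ _ => Finset.mem_univ _)
      (fun a _ _ b _ _ e => Subtype.ext (mul_left_cancel e)) (fun g _ hg => ?_) (fun _ _ _ => rfl)
    have hgN : (y i)⁻¹ * g ∈ N := by
      by_contra h'
      exact hg (by simp [f, h'])
    exact ⟨⟨_, hgN⟩, Finset.mem_univ _, by simpa using hg, by simp⟩
  let F : ι → G → ℂ := fun i g => ∑ x : G, f i (x⁻¹ * g * x)
  have hFc : ∀ i, Cfsg.IsClassFunction G (F i) := fun i g a => by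
    refine Fintype.sum_equiv (Equiv.mulLeft a⁻¹) _ _ fun x => ?_
    simp [mul_assoc]
  have hFS : ∀ i, F i ∈ Submodule.span ℂ (Subtype.val '' (S : Set (IrrCharacter G))) := fun i => by
    rw [classFunction_expand (hFc i)]
    refine Submodule.sum_mem _ fun χ _ => ?_
    by_cases hχ : χ ∈ S
    · exact Submodule.smul_mem _ _ (Submodule.subset_span ⟨χ, hχ, rfl⟩)
    suffices h0 : Cfsg.classInner (F i) (χ : G → ℂ) = 0 by rw [h0, zero_smul]; exact zero_mem _
    have hχθ : Cfsg.classInner θ (fun n : N => (χ : G → ℂ) n) = 0 := by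
      rw [← classInner_conj_symm, not_not.1 fun h => hχ (hS χ h), map_zero]
    rw [classInner_def, Finset.sum_congr rfl fun g _ => Finset.sum_mul _ _ _, Finset.sum_comm,
      Finset.sum_eq_zero, mul_zero]
    intro x _
    rw [Fintype.sum_equiv ((MulAut.conj x⁻¹).toEquiv) _ (fun g => f i g * conj ((χ : G → ℂ) g)) fun g => by
      simp only [MulEquiv.toEquiv_eq_coe, MulEquiv.coe_toEquiv, MulAut.conj_apply, inv_inv]
      conv_rhs => rw [← isClassFunction_irr χ (x⁻¹ * g * x) x, show x * (x⁻¹ * g * x) * x⁻¹ = g by group]]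
    rw [hfsum i, Finset.sum_congr rfl fun n _ => by rw [hf i n]]
    exact (coset_orth' N hθ (hNK i) (hy i) (hΦ i) (hres i)
      (IsCharacter.restrict (isCharacter_of_irr χ.2) (K i)) (fun _ => rfl)).1 hχθ
  let L : ι → (G → ℂ) →ₗ[ℂ] ℂ := fun j =>
    { toFun := fun F' => ∑ n : N, F' (y j * n) * conj (Φ j ⟨y j * n, mul_mem (hy j) (hNK j n.2)⟩)
      map_add' := fun a b => by simp [add_mul, Finset.sum_add_distrib]
      map_smul' := fun c a => by simp [Finset.mul_sum, mul_assoc] }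
  have hterm : ∀ i j (x : G), (i ≠ j ∨ conjN N x θ ≠ θ) →
      ∑ n : N, f i (x⁻¹ * (y j * n) * x) * conj (Φ j ⟨y j * n, mul_mem (hy j) (hNK j n.2)⟩) = 0 := by
    intro i j x hor
    by_cases hmem : (y i)⁻¹ * (x⁻¹ * y j * x) ∈ N
    swap
    · refine Finset.sum_eq_zero fun n _ => ?_
      have h' : (y i)⁻¹ * (x⁻¹ * (y j * n) * x) ∉ N := fun h => hmem (by
        have e : (y i)⁻¹ * (x⁻¹ * y j * x) = ((y i)⁻¹ * (x⁻¹ * (y j * n) * x)) * (x⁻¹ * (n : G)⁻¹ * x) := by group
        rw [e]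
        exact N.mul_mem h (by simpa using (inferInstance : N.Normal).conj_mem _ (N.inv_mem n.2) x⁻¹))
      simp [f, h']
    have hx : conjN N x θ ≠ θ := fun hx => hor.elim (fun hij => hij (hnc i j x hx hmem)) fun h => h hx
    have hne : conjN N x⁻¹ θ ≠ θ := fun h => hx (by rw [← h, ← conjN_mul, inv_mul_cancel, conjN_one, h])
    set H := N ⊔ Subgroup.zpowers (y j) with hH
    have hNH : N ≤ H := le_sup_left
    have hyH : y j ∈ H := SetLike.le_def.1 le_sup_right (Subgroup.mem_zpowers _)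
    have hHj : H ≤ K j := sup_le (hNK j) (Subgroup.zpowers_le.2 (hy j))
    have hyi : x⁻¹ * y j * x ∈ K i := by simpa using mul_mem (hy i) (hNK i hmem)
    have hHi : H.map (MulAut.conj x⁻¹).toMonoidHom ≤ K i := by
      rw [hH, Subgroup.map_sup, MonoidHom.map_zpowers]
      refine sup_le (fun z hz => hNK i ?_) (Subgroup.zpowers_le.2 (by simpa using hyi))
      obtain ⟨a, ha, rfl⟩ := hz
      exact (inferInstance : N.Normal).conj_mem a ha _
    let cj : H →* K i := ((MulAut.conj x⁻¹).toMonoidHom.comp H.subtype).codRestrict (K i)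
      fun a => hHi ⟨a, a.2, rfl⟩
    have h0 := (coset_orth' N (IsIrrCharacter.conjN hθ x⁻¹) hNH hyH (IsCharacter.comp_hom (hΦ i) cj)
      (fun n => by
        show Φ i (cj _) = conjN N x⁻¹ θ n
        rw [conjN, ← hres i]
        exact congrArg (Φ i) (Subtype.ext (by simp [cj])))
      (IsCharacter.comp_hom (hΦ j) (Subgroup.inclusion hHj)) (θ' := θ) (fun n => by rw [← hres j]; rfl)).1
      (by rw [classInner_irrChar (IsIrrCharacter.conjN hθ x⁻¹) hθ, if_neg hne])
    rw [← h0]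
    refine Finset.sum_congr rfl fun n _ => ?_
    have h' : (y i)⁻¹ * (x⁻¹ * (y j * n) * x) ∈ N := by
      have e : (y i)⁻¹ * (x⁻¹ * (y j * n) * x) = ((y i)⁻¹ * (x⁻¹ * y j * x)) * (x⁻¹ * n * x) := by group
      rw [e]
      exact N.mul_mem hmem (by simpa using (inferInstance : N.Normal).conj_mem _ n.2 x⁻¹)
    have hK : x⁻¹ * (y j * n) * x ∈ K i := by simpa using mul_mem (hy i) (hNK i h')
    simp only [f, h', if_true]
    rw [extendByZero_mem _ hK]
    congr 1
    exact congrArg (Φ i) (Subtype.ext (by simp [cj]))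
  have hL : ∀ i j, L j (F i) = ∑ x : G, ∑ n : N,
      f i (x⁻¹ * (y j * n) * x) * conj (Φ j ⟨y j * n, mul_mem (hy j) (hNK j n.2)⟩) := fun i j => by
    simp only [L, F, LinearMap.coe_mk, AddHom.coe_mk, Finset.sum_mul]
    exact Finset.sum_comm
  have hzero : ∀ i j, i ≠ j → L j (F i) = 0 := fun i j hij => by
    rw [hL]; exact Finset.sum_eq_zero fun x _ => hterm i j x (Or.inl hij)
  have hone : ∀ i, L i (F i) ≠ 0 := by
    intro i
    set c := ∑ n : N, Φ i ⟨y i * n, mul_mem (hy i) (hNK i n.2)⟩ *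
      conj (Φ i ⟨y i * n, mul_mem (hy i) (hNK i n.2)⟩) with hc
    have hc0 : c ≠ 0 := (coset_orth' N hθ (hNK i) (hy i) (hΦ i) (hres i) (hΦ i) (hres i)).2
    have hval : ∀ x : G, ∑ n : N, f i (x⁻¹ * (y i * n) * x) * conj (Φ i ⟨y i * n, mul_mem (hy i) (hNK i n.2)⟩) =
        if conjN N x θ = θ ∧ (y i)⁻¹ * (x⁻¹ * y i * x) ∈ N then c else 0 := by
      intro x
      split_ifs with h
      · refine Finset.sum_congr rfl fun n _ => ?_
        have h' : (y i)⁻¹ * (x⁻¹ * (y i * n) * x) ∈ N := by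
          have e : (y i)⁻¹ * (x⁻¹ * (y i * n) * x) = ((y i)⁻¹ * (x⁻¹ * y i * x)) * (x⁻¹ * n * x) := by group
          rw [e]
          exact N.mul_mem h.2 (by simpa using (inferInstance : N.Normal).conj_mem _ n.2 x⁻¹)
        have hK : x⁻¹ * (y i * n) * x ∈ K i := by simpa using mul_mem (hy i) (hNK i h')
        congr 1
        simp only [f, h', if_true]
        rw [extendByZero_mem _ hK]
        exact hinv i x h.1 n hK h'
      · by_cases hx : conjN N x θ = θ
        · refine Finset.sum_eq_zero fun n _ => ?_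
          have h' : (y i)⁻¹ * (x⁻¹ * (y i * n) * x) ∉ N := fun hh => h ⟨hx, by
            have e : (y i)⁻¹ * (x⁻¹ * y i * x) = ((y i)⁻¹ * (x⁻¹ * (y i * n) * x)) * (x⁻¹ * (n : G)⁻¹ * x) := by group
            rw [e]
            exact N.mul_mem hh (by simpa using (inferInstance : N.Normal).conj_mem _ (N.inv_mem n.2) x⁻¹)⟩
          simp [f, h']
        · exact hterm i i x (Or.inr hx)
    rw [hL, Finset.sum_congr rfl fun x _ => hval x, Finset.sum_ite, Finset.sum_const_zero, add_zero,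
      Finset.sum_const, nsmul_eq_mul]
    refine mul_ne_zero (Nat.cast_ne_zero.2 (Finset.card_ne_zero.2 ⟨1, Finset.mem_filter.2 ⟨Finset.mem_univ _, ?_⟩⟩)) hc0
    exact ⟨conjN_one N θ, by simp⟩
  have hli : LinearIndependent ℂ F := Fintype.linearIndependent_iff.2 fun g hg i => by
    have h := congrArg (L i) hg
    rw [map_sum, map_zero, Finset.sum_eq_single i (fun j _ hj => by rw [map_smul, hzero j i hj, smul_zero])
      (fun h => absurd (Finset.mem_univ i) h), map_smul, smul_eq_mul] at h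
    exact (mul_eq_zero.1 h).resolve_right (hone i)
  have hs := finrank_span_eq_card hli
  have hle : Submodule.span ℂ (Set.range F) ≤ Submodule.span ℂ (Subtype.val '' (S : Set (IrrCharacter G))) :=
    Submodule.span_le.2 (by rintro _ ⟨i, rfl⟩; exact hFS i)
  haveI : Module.Finite ℂ (Submodule.span ℂ (Subtype.val '' (S : Set (IrrCharacter G)))) :=
    Module.Finite.span_of_finite ℂ (S.finite_toSet.image _)
  rw [← hs]
  refine (Submodule.finrank_mono hle).trans ?_
  rw [← Finset.coe_image]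
  exact (finrank_span_finset_le_card _).trans Finset.card_image_le

end Cfsg.Lib.Blocks.ThreeChars
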