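import Mathlib
import Cfsg.Agent.Blocks.ThreeChars.Small

/-!
# Transitive linear groups of dimension two with `p + 1` a power of two
-/

set_option autoImplicit false
set_option linter.unusedSectionVars false
set_option linter.style.haveILetI false

namespace Cfsg.Lib.Blocks.ThreeChars

open Polynomial

universe u v

variable {p : ℕ} [hp : Fact p.Prime] {V : Type v} [AddCommGroup V] [Module (ZMod p) V] [Finite V]
  {E : Type u} [Group E] [Finite E] (ρ : E →* Module.End (ZMod p) V)

theorem card_V_eq : Nat.card V = p ^ Module.finrank (ZMod p) V := by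
  rw [Module.natCard_eq_pow_finrank (K := ZMod p), Nat.card_zmod]

theorem not_sq_neg_one (h4 : p % 4 = 3) (c : ZMod p) : c * c ≠ -1 := fun h =>
  ZMod.exists_sq_eq_neg_one_iff.1 ⟨c, h.symm⟩ h4

theorem pow_apply_eigen (g : E) {v : V} {a : ZMod p} (h : ρ g v = a • v) :
    ∀ n : ℕ, ρ (g ^ n) v = a ^ n • v := by
  intro n
  induction n with
  | zero => rw [pow_zero, pow_zero, map_one, one_smul, Module.End.one_apply]
  | succ n ih => rw [pow_succ, map_mul, Module.End.mul_apply, h, map_smul, ih, smul_smul, pow_succ, mul_comm]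

/-- The elements of order four square to minus one. -/
theorem sq_of_order_four (hinj : Function.Injective ρ) (h4 : p % 4 = 3) (hV : Module.finrank (ZMod p) V = 2)
    {z : E} (hz : orderOf z = 4) : ρ (z * z) = -1 := by
  by_contra h
  have hp2 : p ≠ 2 := by omega
  obtain ⟨v, w, -, hw, -, hw0, -, hlines⟩ := eigen_lines hp2 hV (ρ (z * z))
    (by rw [← map_mul, show z * z * (z * z) = z ^ 4 by rw [pow_succ, pow_succ, pow_two, mul_assoc, mul_assoc, mul_assoc], ← hz,
      pow_orderOf_eq_one, map_one])
    (fun e => by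
      have := orderOf_dvd_of_pow_eq_one (show z ^ 2 = 1 by rw [pow_two]; exact hinj (by rw [e, map_one]))
      rw [hz] at this; norm_num at this) h
  obtain ⟨-, b, hb⟩ := hlines (ρ z) (by rw [← map_mul, ← map_mul, mul_assoc])
  rw [map_mul, Module.End.mul_apply, hb, map_smul, hb, smul_smul, ← neg_one_smul (ZMod p) w] at hw
  exact not_sq_neg_one h4 b (smul_left_injective _ hw0 hw)

/-- Their centraliser is cyclic. -/
theorem order_four_cyclic (hinj : Function.Injective ρ) (h4 : p % 4 = 3) (hV : Module.finrank (ZMod p) V = 2)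
    {z : E} (hz : orderOf z = 4) : IsCyclic (Subgroup.centralizer ({z} : Set E)) := by
  haveI : Nontrivial V := Module.nontrivial_of_finrank_pos (R := ZMod p) (by omega)
  have hirr : Irreducible (X ^ 2 + C 1 : (ZMod p)[X]) :=
    irreducible_of_degree_le_three_of_not_isRoot (by rw [natDegree_X_pow_add_C]; simp) fun c hc => by
      rw [IsRoot.def, eval_add, eval_pow, eval_X, eval_C, add_eq_zero_iff_eq_neg, pow_two] at hc
      exact not_sq_neg_one h4 c hc
  have hm : X ^ 2 + C 1 = minpoly (ZMod p) (ρ z) :=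
    minpoly.eq_of_irreducible_of_monic hirr (by
      rw [map_add, map_pow, aeval_X, map_one, map_one, pow_two, ← map_mul, sq_of_order_four ρ hinj h4 hV hz]
      exact neg_add_cancel 1) (monic_X_pow_add_C _ (by norm_num))
  exact centralizer_cyclic_of_irr ρ hinj (hm ▸ hirr) (by rw [← hm, natDegree_X_pow_add_C, hV])

/-- Two elements have exponent at most four. -/
theorem pow_four_eq_one (hinj : Function.Injective ρ) (hgood : GoodConj E) (h4 : p % 4 = 3)
    (hV : Module.finrank (ZMod p) V = 2) {g : E} {m : ℕ} (hg : g ^ 2 ^ m = 1) : g ^ 4 = 1 := by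
  obtain ⟨i, hi, hio⟩ := (Nat.dvd_prime_pow Nat.prime_two).1 (orderOf_dvd_of_pow_eq_one hg)
  by_cases hi2 : i ≤ 2
  · exact orderOf_dvd_iff_pow_eq_one.1 (hio ▸ (pow_dvd_pow 2 hi2 : 2 ^ i ∣ 2 ^ 2))
  exfalso
  have hy : orderOf (g ^ 2 ^ (i - 3)) = 8 := by
    rw [orderOf_pow' g (by positivity), hio, Nat.gcd_eq_right (pow_dvd_pow 2 (by omega)),
      Nat.pow_div (by omega) (by norm_num), show i - (i - 3) = 3 by omega]
  set y := g ^ 2 ^ (i - 3)
  have hz : orderOf (y ^ 2) = 4 := by rw [orderOf_pow' y (by norm_num), hy]; norm_num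
  have hz1 : y ^ 2 ≠ 1 := fun h => by rw [h, orderOf_one] at hz; norm_num at hz
  have hy' : y ∈ Subgroup.centralizer ({y ^ 2} : Set E) :=
    Subgroup.mem_centralizer_singleton_iff.2 ((Commute.refl y).pow_right 2).eq
  rw [centralizer_eq_zpowers hgood hz1 (order_four_cyclic ρ hinj h4 hV hz)] at hy'
  have h8 : orderOf y ∣ 4 := by
    rw [← hz, ← Nat.card_zpowers, ← Nat.card_zpowers (y ^ 2)]
    exact Subgroup.card_dvd_of_le (Subgroup.zpowers_le.2 hy')
  rw [hy] at h8
  norm_num at h8

/-- Centralisers in a two subgroup of elements other than `±1`. -/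
theorem centralizer_two_le (hinj : Function.Injective ρ) (hgood : GoodConj E) (h4 : p % 4 = 3)
    (hV : Module.finrank (ZMod p) V = 2) (P : Subgroup E) (hP : ∀ g ∈ P, g ^ 4 = 1) {w : E} (hw : w ∈ P)
    (h1 : w ≠ 1) (hm1 : ρ w ≠ -1) : Nat.card ↥(P ⊓ Subgroup.centralizer ({w} : Set E)) ≤ 4 := by
  classical
  by_cases hw2 : w * w = 1
  · have hp2 : p ≠ 2 := by omega
    obtain ⟨v, u, -, -, hv, hu, hext, hlines⟩ := eigen_lines hp2 hV (ρ w) (by rw [← map_mul, hw2, map_one])
      (fun h => h1 (hinj (by rw [h, map_one]))) hm1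
    have hl : ∀ g : ↥(P ⊓ Subgroup.centralizer ({w} : Set E)),
        ∃ e : ({1, -1} : Finset (ZMod p)) × ({1, -1} : Finset (ZMod p)),
          ρ (g : E) v = (e.1 : ZMod p) • v ∧ ρ (g : E) u = (e.2 : ZMod p) • u := by
      intro g
      obtain ⟨⟨a, ha⟩, b, hb⟩ := hlines (ρ (g : E)) (by rw [← map_mul, ← map_mul, Subgroup.mem_centralizer_singleton_iff.1 g.2.2])
      have key : ∀ (s : V) (c : ZMod p), s ≠ 0 → ρ (g : E) s = c • s → c ∈ ({1, -1} : Finset (ZMod p)) := by
        intro s c hs hc
        have h := pow_apply_eigen ρ (g : E) hc 4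
        rw [hP _ g.2.1, map_one, Module.End.one_apply] at h
        have h' : c ^ 4 = 1 := smul_left_injective _ hs (by simp only; rw [← h, one_smul])
        rcases mul_self_eq_one_iff.1 (show (c * c) * (c * c) = 1 by rw [← h']; ring) with e | e
        · simpa using mul_self_eq_one_iff.1 e
        · exact absurd e (not_sq_neg_one h4 c)
      exact ⟨(⟨a, key v a hv ha⟩, ⟨b, key u b hu hb⟩), ha, hb⟩
    choose e he using hl
    have hinje : Function.Injective e := fun g k h => Subtype.ext (hinj (hext _ _
      (by rw [(he g).1, (he k).1, h]) (by rw [(he g).2, (he k).2, h])))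
    refine (Nat.card_le_card_of_injective e hinje).trans ?_
    rw [Nat.card_eq_fintype_card, Fintype.card_prod, Fintype.card_coe]
    exact le_trans (Nat.mul_le_mul Finset.card_le_two Finset.card_le_two) le_rfl
  · have hord : orderOf w = 4 := orderOf_eq_prime_pow (p := 2) (n := 1) (by rwa [pow_one, pow_two]) (hP w hw)
    refine (Subgroup.card_le_of_le inf_le_right).trans (le_of_eq ?_)
    rw [centralizer_eq_zpowers hgood h1 (order_four_cyclic ρ hinj h4 hV hord), Nat.card_zpowers, hord]

/-- Such a two subgroup has order at most eight. -/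
theorem card_two_le (hinj : Function.Injective ρ) (hgood : GoodConj E) (h4 : p % 4 = 3)
    (hV : Module.finrank (ZMod p) V = 2) (P : Subgroup E) (hP : IsPGroup 2 P) : Nat.card P ≤ 8 := by
  classical
  have hP4 : ∀ g ∈ P, g ^ 4 = 1 := fun g hg => by
    obtain ⟨m, hm⟩ := hP ⟨g, hg⟩
    exact pow_four_eq_one ρ hinj hgood h4 hV (congrArg Subtype.val hm)
  by_contra hlt
  push Not at hlt
  haveI : Nontrivial P := Finite.one_lt_card_iff_nontrivial.1 (by omega)
  have hZ : ∀ c : Subgroup.center P, c ≠ 1 → ρ ((c : P) : E) = -1 := fun c hc => by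
    by_contra hne
    have := centralizer_two_le ρ hinj hgood h4 hV P hP4 (c : P).2
      (fun h => hc (Subtype.ext (Subtype.ext h))) hne
    have hle : P ≤ Subgroup.centralizer ({((c : P) : E)} : Set E) := fun g hg =>
      Subgroup.mem_centralizer_singleton_iff.2 (congrArg Subtype.val (Subgroup.mem_center_iff.1 c.2 ⟨g, hg⟩))
    rw [inf_eq_left.2 hle] at this
    omega
  have hZ2 : Nat.card (Subgroup.center P) ≤ 2 := by
    haveI : Nontrivial (Subgroup.center P) := hP.center_nontrivial
    obtain ⟨c₀, hc₀⟩ := exists_ne (1 : Subgroup.center P)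
    have : ∀ c : Subgroup.center P, c = 1 ∨ c = c₀ := fun c => by
      by_cases h : c = 1
      · exact Or.inl h
      · exact Or.inr (Subtype.ext (Subtype.ext (hinj ((hZ c h).trans (hZ c₀ hc₀).symm))))
    calc Nat.card (Subgroup.center P) = ({1, c₀} : Set (Subgroup.center P)).ncard := by
          rw [← Set.ncard_univ]; congr 1; ext c; simpa using this c
      _ ≤ 2 := (Set.ncard_insert_le _ _).trans (by rw [Set.ncard_singleton])
  haveI : Nontrivial (P ⧸ Subgroup.center P) := by
    refine Finite.one_lt_card_iff_nontrivial.1 ?_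
    have h := Subgroup.card_eq_card_quotient_mul_card_subgroup (Subgroup.center P)
    by_contra hq
    push Not at hq
    have := Nat.mul_le_mul hq hZ2
    omega
  haveI : Nontrivial (Subgroup.center (P ⧸ Subgroup.center P)) := (hP.to_quotient _).center_nontrivial
  obtain ⟨q, hq⟩ := exists_ne (1 : Subgroup.center (P ⧸ Subgroup.center P))
  obtain ⟨w, hw⟩ := QuotientGroup.mk_surjective (q : P ⧸ Subgroup.center P)
  have hwc : w ∉ Subgroup.center P := fun h => hq (Subtype.ext (by rw [← hw, (QuotientGroup.eq_one_iff w).2 h]; rfl))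
  have hcomm : ∀ g : P, g * w * g⁻¹ * w⁻¹ ∈ Subgroup.center P := fun g => by
    rw [← QuotientGroup.eq_one_iff, QuotientGroup.mk_mul, QuotientGroup.mk_mul, QuotientGroup.mk_mul, QuotientGroup.mk_inv,
      QuotientGroup.mk_inv, hw, Subgroup.mem_center_iff.1 q.2 (g : P ⧸ Subgroup.center P)]
    group
  set H := Subgroup.centralizer ({w} : Set P)
  have hidx : H.index ≤ 2 := by
    refine le_trans (Nat.card_le_card_of_injective
      (fun x : P ⧸ H => (⟨x.out * w * x.out⁻¹ * w⁻¹, hcomm _⟩ : Subgroup.center P)) ?_) hZ2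
    intro x y hxy
    have h := mul_right_cancel (congrArg Subtype.val hxy)
    rw [← QuotientGroup.out_eq' x, ← QuotientGroup.out_eq' y, QuotientGroup.eq]
    rw [Subgroup.mem_centralizer_singleton_iff]
    calc x.out⁻¹ * y.out * w = x.out⁻¹ * (y.out * w * y.out⁻¹) * y.out := by group
      _ = x.out⁻¹ * (x.out * w * x.out⁻¹) * y.out := by rw [h]
      _ = w * (x.out⁻¹ * y.out) := by group
  have hH : Nat.card H ≤ 4 := by
    have h1 : (w : E) ≠ 1 := fun h => hwc (by rw [show w = 1 from Subtype.ext h]; exact one_mem _)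
    have hm1 : ρ (w : E) ≠ -1 := fun h => hwc (Subgroup.mem_center_iff.2 fun g =>
      Subtype.ext (scalar_central ρ hinj (c := -1) (by rw [h, neg_one_smul]) (g : E)))
    refine le_trans (Nat.card_le_card_of_injective (fun g : H => (⟨((g : P) : E), (g : P).2,
      Subgroup.mem_centralizer_singleton_iff.2 (congrArg Subtype.val (Subgroup.mem_centralizer_singleton_iff.1 g.2))⟩ :
        ↥(P ⊓ Subgroup.centralizer ({(w : E)} : Set E))))
      fun g k e => Subtype.ext (Subtype.ext (congrArg (fun t : ↥(P ⊓ Subgroup.centralizer ({(w : E)} : Set E)) => (t : E)) e)))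
      (centralizer_two_le ρ hinj hgood h4 hV P hP4 w.2 h1 hm1)
  have := H.index_mul_card
  have := Nat.mul_le_mul hidx hH
  omega

/-- Dimension two with `p + 1` a power of two does not occur. -/
theorem two_pow_false (hinj : Function.Injective ρ) (hgood : GoodConj E) (hp2 : p ≠ 2)
    (hpE : ¬ p ∣ Nat.card E)
    (htr : ∀ v w : V, v ≠ 0 → w ≠ 0 → ∃ g : E, ρ g v = w)
    (hV : Module.finrank (ZMod p) V = 2) {k : ℕ} (hk : p + 1 = 2 ^ k) : False := by
  classical
  have hp3 : 3 ≤ p := by have := hp.out.two_le; omega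
  obtain ⟨j, rfl⟩ : ∃ j, k = j + 2 := ⟨k - 2, by
    rcases k with _ | _ | k
    · norm_num at hk; omega
    · norm_num at hk; omega
    · omega⟩
  have h4 : p % 4 = 3 := by rw [pow_add] at hk; omega
  haveI : Nontrivial V := Module.nontrivial_of_finrank_pos (R := ZMod p) (by omega)
  obtain ⟨v₀, hv₀⟩ := exists_ne (0 : V)
  obtain ⟨H₀, hH₀, hcard⟩ := stab_card ρ htr hv₀
  rw [card_V_eq (p := p), hV] at hcard
  have hsq : p ^ 2 - 1 = (p + 1) * (p - 1) := by
    have := Nat.sq_sub_sq p 1; rwa [one_pow] at this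
  have hdvd : 2 ^ (j + 3) ∣ Nat.card E := by
    rw [← hcard, hsq, hk, pow_succ 2 (j + 2)]
    exact Dvd.dvd.mul_right (mul_dvd_mul_left _ (by omega)) _
  obtain ⟨P⟩ := (inferInstance : Nonempty (Sylow 2 E))
  have hle := card_two_le ρ hinj hgood h4 hV P.toSubgroup P.isPGroup'
  have hj : j = 0 := by
    have h' : 2 ^ (j + 3) ∣ Nat.card P := P.pow_dvd_card_of_pow_dvd_card hdvd
    have := Nat.le_of_dvd Nat.card_pos h'
    rcases j with _ | j
    · rfl
    · rw [pow_add, pow_succ] at this
      have := Nat.one_le_two_pow (n := j)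
      omega
  subst hj
  obtain rfl : p = 3 := by norm_num at hk; omega
  have hstab : ∀ v : V, v ≠ 0 → ∀ H : Subgroup E, (∀ g, g ∈ H ↔ ρ g v = v) → Nat.card H ≤ 2 := by
    intro v hv H hH
    obtain ⟨w, hw⟩ : ∃ w, w ∉ Submodule.span (ZMod 3) ({v} : Set V) := by
      by_contra hcon
      push Not at hcon
      have h := finrank_span_singleton (K := ZMod 3) hv
      rw [(eq_top_iff.2 fun x _ => hcon x : Submodule.span (ZMod 3) ({v} : Set V) = ⊤), finrank_top] at h
      omega
    have hli : LinearIndependent (ZMod 3) ![v, w] := by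
      rw [LinearIndependent.pair_iff' hv]
      exact fun a ha => hw (ha ▸ Submodule.smul_mem _ _ (Submodule.mem_span_singleton_self v))
    have hspan := hli.span_eq_top_of_card_eq_finrank (by rw [Fintype.card_fin, hV])
    have hco : ∀ u : V, ∃ a b : ZMod 3, a • v + b • w = u := fun u => by
      refine Submodule.mem_span_pair.1 ?_
      rw [show ({v, w} : Set V) = Set.range ![v, w] by simp [Matrix.range_cons, Matrix.range_empty, Set.pair_comm],
        hspan]
      trivial
    choose a b hab using fun g : H => hco (ρ (g : E) w)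
    have hcoord : ∀ {a b a' b' : ZMod 3}, a • v + b • w = a' • v + b' • w → a = a' ∧ b = b' := fun h =>
      hli.eq_of_pair h
    have hbm : ∀ g k, b (g * k) = b g * b k := fun g k => (hcoord (a := a (g * k)) (a' := a k + b k * a g) (by
      rw [hab, Subgroup.coe_mul, map_mul, Module.End.mul_apply, ← hab k, map_add, map_smul, map_smul, (hH _).1 g.2,
        ← hab g, smul_add, smul_smul, smul_smul, add_smul, mul_comm (b g) (b k)]
      abel)).2
    have hb1 : b 1 = 1 := (hcoord (a := a 1) (a' := 0) (by rw [hab, OneMemClass.coe_one, map_one,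
      Module.End.one_apply, zero_smul, zero_add, one_smul])).2
    let β : H →* ZMod 3 := { toFun := b, map_one' := hb1, map_mul' := hbm }
    have hinjβ : Function.Injective β.toHomUnits := (injective_iff_map_eq_one _).2 fun g hg => by
      have hg' : b g = 1 := by simpa [MonoidHom.coe_toHomUnits, β] using congrArg Units.val hg
      have hgw : ρ (g : E) w = a g • v + w := by rw [← hab g, hg', one_smul]
      have h3 : (g : E) ^ 3 = 1 := by
        refine hinj (LinearMap.ext fun u => ?_)
        obtain ⟨c, d, rfl⟩ := hco u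
        have hv3 : ρ ((g : E) ^ 3) v = v := by simp [pow_succ, (hH _).1 g.2]
        have hw3 : ρ ((g : E) ^ 3) w = w := by
          simp only [pow_succ, pow_zero, one_mul, map_mul, Module.End.mul_apply, hgw, map_add, map_smul, (hH _).1 g.2]
          rw [show a g • v + (a g • v + (a g • v + w)) = (a g + a g + a g) • v + w by rw [add_smul, add_smul]; abel,
            show a g + a g + a g = 3 * a g by ring, show (3 : ZMod 3) = 0 from rfl, zero_mul, zero_smul, zero_add]
        rw [map_one, Module.End.one_apply, map_add, map_smul, map_smul, hv3, hw3]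
      by_contra hg1
      have h : orderOf (g : E) = 3 := orderOf_eq_prime h3 (fun e => hg1 (Subtype.ext e))
      exact hpE (h ▸ orderOf_dvd_natCard _)
    refine (Nat.card_le_card_of_injective _ hinjβ).trans ?_
    rw [Nat.card_eq_fintype_card, ZMod.card_units_eq_totient]
    decide
  have h16 : Nat.card H₀ ≤ 2 := hstab v₀ hv₀ H₀ hH₀
  norm_num at hcard
  have hPtop : Nat.card E = Nat.card P := by
    rw [← hcard]
    have hd : 8 * Nat.card H₀ ∣ Nat.card P := by
      rcases (show Nat.card H₀ = 1 ∨ Nat.card H₀ = 2 by have := Nat.card_pos (α := H₀); omega) with e | e <;> rw [e]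
      · exact P.pow_dvd_card_of_pow_dvd_card (n := 3) ⟨1, by rw [← hcard, e]; norm_num⟩
      · exact P.pow_dvd_card_of_pow_dvd_card (n := 4) ⟨1, by rw [← hcard, e]; norm_num⟩
    exact Nat.dvd_antisymm hd (hcard ▸ Subgroup.card_subgroup_dvd_card P.toSubgroup)
  have hcard8 : Nat.card E = 8 := by
    have : 0 < Nat.card H₀ := Nat.card_pos
    omega
  -- the action is regular, so there is only one involution
  have hinv : ∀ s : E, s * s = 1 → s ≠ 1 → ρ s = -1 := by
    intro s hs hs1
    by_contra hne
    obtain ⟨v, w, hv, -, hv0, -⟩ := eigen_lines hp2 hV (ρ s) (by rw [← map_mul, hs, map_one])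
      (fun h => hs1 (hinj (by rw [h, map_one]))) hne
    obtain ⟨H, hH, hc⟩ := stab_card ρ htr hv0
    rw [card_V_eq (p := 3), hV, hcard8] at hc
    norm_num at hc
    exact hs1 (Subgroup.mem_bot.1 (hc ▸ (hH s).2 hv))
  have hexp : ∀ g : E, g ^ 4 = 1 := fun g =>
    pow_four_eq_one ρ hinj hgood h4 hV (m := 3) (by norm_num; rw [← hcard8, pow_card_eq_one'])
  obtain ⟨z, hz⟩ : ∃ z : E, orderOf z = 4 := by
    by_contra hcon
    push Not at hcon
    have hall : ∀ g : E, g = 1 ∨ ρ g = -1 := fun g => by
      by_cases hg : g = 1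
      · exact Or.inl hg
      refine Or.inr (hinv g ?_ hg)
      by_contra h
      exact hcon g (orderOf_eq_prime_pow (p := 2) (n := 1) (by rwa [pow_one, pow_two]) (hexp g))
    have : Nat.card E ≤ 2 := by
      refine (Nat.card_le_card_of_injective (fun g : E => decide (g = 1)) fun g k e => ?_).trans (by simp)
      rcases hall g with rfl | hg <;> rcases hall k with rfl | hk
      · rfl
      · simpa [eq_comm] using e
      · simpa using e
      · exact hinj (hg.trans hk.symm)
    omega
  have hz1 : z ≠ 1 := fun h => by rw [h, orderOf_one] at hz; norm_num at hz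
  have hclass := ncard_isConj z
  rw [centralizer_eq_zpowers hgood hz1 (order_four_cyclic ρ hinj h4 hV hz), Nat.card_zpowers, hz, hcard8] at hclass
  have hsub : (Set.univ : Set E) ⊆ {g | IsConj z g} ∪ {1, z * z} := by
    intro g _
    by_cases hg : g = 1
    · exact Or.inr (Or.inl hg)
    by_cases hg2 : g * g = 1
    · refine Or.inr (Or.inr (Set.mem_singleton_iff.2 (hinj ?_)))
      rw [hinv g hg2 hg, sq_of_order_four ρ hinj h4 hV hz]
    · have hg4 : orderOf g = 4 := orderOf_eq_prime_pow (p := 2) (n := 1) (by rwa [pow_one, pow_two]) (hexp g)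
      exact Or.inl (hgood z g hz1 hg (order_four_cyclic ρ hinj h4 hV hz) (order_four_cyclic ρ hinj h4 hV hg4))
  have := (Set.ncard_le_ncard hsub (Set.toFinite _)).trans (Set.ncard_union_le _ _)
  rw [Set.ncard_univ, hcard8] at this
  have := Set.ncard_insert_le (1 : E) {z * z}
  rw [Set.ncard_singleton] at this
  omega

/-- Dimension one. -/
theorem one_eq_three (hinj : Function.Injective ρ) (hgood : GoodConj E) (hp2 : p ≠ 2)
    (htr : ∀ v w : V, v ≠ 0 → w ≠ 0 → ∃ g : E, ρ g v = w)
    (hV : Module.finrank (ZMod p) V = 1) : Nat.card V = 3 := by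
  classical
  haveI : Nontrivial V := Module.nontrivial_of_finrank_pos (R := ZMod p) (by omega)
  obtain ⟨v, hv⟩ := exists_ne (0 : V)
  have hall : ∀ g : E, ∃ c : ZMod p, ρ g = c • 1 := fun g => by
    obtain ⟨c, hc⟩ := exists_smul_eq_of_finrank_eq_one hV hv (ρ g v)
    refine ⟨c, LinearMap.ext fun u => ?_⟩
    obtain ⟨d, rfl⟩ := exists_smul_eq_of_finrank_eq_one hV hv u
    rw [map_smul, ← hc, LinearMap.smul_apply, Module.End.one_apply, smul_comm]
  have hcomm : ∀ g h : E, g * h = h * g := fun g h => by
    obtain ⟨c, hc⟩ := hall h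
    exact scalar_central ρ hinj hc g
  choose c hc using hall
  let ψ : E →* ZMod p :=
    { toFun := c
      map_one' := smul_left_injective _ hv (by
        simp only; rw [← Module.End.one_apply (R := ZMod p) v, ← LinearMap.smul_apply, ← hc, map_one, Module.End.one_apply, one_smul])
      map_mul' := fun g h => smul_left_injective _ hv (by
        simp only; rw [← Module.End.one_apply (R := ZMod p) v, ← LinearMap.smul_apply, ← hc, map_mul, hc g, hc h]
        simp [smul_smul, mul_comm]) }
  haveI hcycE : IsCyclic E := isCyclic_of_injective_ringHom ψ fun g h e => hinj (by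
    rw [hc g, hc h]; exact congrArg (· • (1 : Module.End (ZMod p) V)) e)
  have hcent : ∀ g : E, IsCyclic (Subgroup.centralizer ({g} : Set E)) := fun g => inferInstance
  obtain ⟨H, hH, hcard⟩ := stab_card ρ htr hv
  rw [card_V_eq (p := p), hV, pow_one] at hcard ⊢
  have hle : Nat.card E ≤ 2 := by
    refine (Nat.card_le_card_of_injective (fun g : E => decide (g = 1)) fun g k e => ?_).trans (by simp)
    by_cases hg : g = 1 <;> by_cases hk : k = 1
    · rw [hg, hk]
    · simp [hg, hk] at e
    · simp [hg, hk] at e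
    · obtain ⟨d, hd⟩ := isConj_iff.1 (hgood g k hg hk (hcent g) (hcent k))
      rw [← hd, hcomm d g, mul_inv_cancel_right]
  have h1 : p - 1 ≤ 2 := le_trans (Nat.le_mul_of_pos_right _ Nat.card_pos) (hcard.le.trans hle)
  have := hp.out.two_le
  omega

end Cfsg.Lib.Blocks.ThreeChars
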