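import Mathlib
import Cfsg.Agent.Blocks.ThreeChars.Small

/-!
# An elementary two group normalised by an element of order five in dimension four
-/

set_option autoImplicit false
set_option linter.unusedSectionVars false
set_option linter.style.haveILetI false

namespace Cfsg.Lib.Blocks.ThreeChars

universe u v

variable {p : ℕ} [hp : Fact p.Prime] {V : Type v} [AddCommGroup V] [Module (ZMod p) V] [Finite V]
  {E : Type u} [Group E] [Finite E] (ρ : E →* Module.End (ZMod p) V)

/-- Fewer dimensions than conjugates: the element centralises the group. -/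
theorem commute_of_small_dim (hinj : Function.Injective ρ) (hp2 : p ≠ 2) (A : Subgroup E) [A.Normal]
    (hA : ∀ a ∈ A, a * a = 1) (hcomm : ∀ a ∈ A, ∀ b ∈ A, a * b = b * a) {x : E} {r : ℕ} (hr : r.Prime)
    (hx : orderOf x = r) (hdim : Module.finrank (ZMod p) V < r) {a₀ : E} (ha₀ : a₀ ∈ A) :
    x * a₀ = a₀ * x := by
  classical
  haveI := Fintype.ofFinite A
  set S : Finset A → Set V := fun F => {w | ∀ a ∈ F, ρ (a : E) w = w ∨ ρ (a : E) w = -w} with hS
  have hspan : ∀ F : Finset A, Submodule.span (ZMod p) (S F) = ⊤ := by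
    intro F
    induction F using Finset.induction_on with
    | empty =>
      rw [eq_top_iff]
      exact fun u _ => Submodule.subset_span (by intro a ha; simp at ha)
    | insert a F _ ih =>
      rw [eq_top_iff, ← ih, Submodule.span_le]
      intro w hw
      have haa : ρ (a : E) (ρ (a : E) w) = w := by
        rw [← Module.End.mul_apply, ← map_mul, hA _ a.2, map_one, Module.End.one_apply]
      have hmem : ∀ (b : A), b ∈ F → ∀ ε : ZMod p, ρ (b : E) (w + ε • ρ (a : E) w) = w + ε • ρ (a : E) w ∨
          ρ (b : E) (w + ε • ρ (a : E) w) = -(w + ε • ρ (a : E) w) := by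
        intro b hb ε
        have hba : ρ (b : E) (ρ (a : E) w) = ρ (a : E) (ρ (b : E) w) := by
          rw [← Module.End.mul_apply, ← map_mul, hcomm _ b.2 _ a.2, map_mul, Module.End.mul_apply]
        rcases hw b hb with h | h
        · left; rw [map_add, map_smul, hba, h]
        · right; rw [map_add, map_smul, hba, h, map_neg, smul_neg, neg_add]
      have h1 : w + (1 : ZMod p) • ρ (a : E) w ∈ S (insert a F) := by
        intro b hb
        rcases Finset.mem_insert.1 hb with rfl | hb
        · left; rw [map_add, map_smul, haa, one_smul, one_smul, add_comm]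
        · exact hmem b hb 1
      have h2 : w + (-1 : ZMod p) • ρ (a : E) w ∈ S (insert a F) := by
        intro b hb
        rcases Finset.mem_insert.1 hb with rfl | hb
        · right; rw [map_add, map_smul, haa, neg_one_smul, neg_one_smul, neg_add, neg_neg, add_comm]
        · exact hmem b hb (-1)
      have hw' : w = (2 : ZMod p)⁻¹ • ((w + (1 : ZMod p) • ρ (a : E) w) + (w + (-1 : ZMod p) • ρ (a : E) w)) := by
        rw [one_smul, neg_one_smul, show w + ρ (a : E) w + (w + -ρ (a : E) w) = (2 : ZMod p) • w by rw [two_smul]; abel,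
          smul_smul, inv_mul_cancel₀ (two_ne hp2), one_smul]
      rw [SetLike.mem_coe, hw']
      exact Submodule.smul_mem _ _ (Submodule.add_mem _ (Submodule.subset_span h1) (Submodule.subset_span h2))
  have hx1 : x ≠ 1 := fun h => by rw [h, orderOf_one] at hx; exact hr.one_lt.ne hx
  suffices key : ∀ w ∈ S Finset.univ, ρ (x * a₀ * x⁻¹) w = ρ a₀ w by
    have he : x * a₀ * x⁻¹ = a₀ := by
      refine hinj (LinearMap.ext_on (hspan Finset.univ) fun w hw => ?_)
      exact key w hw
    calc x * a₀ = x * a₀ * x⁻¹ * x := by group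
      _ = a₀ * x := by rw [he]
  intro w hw
  by_cases hw0 : w = 0
  · rw [hw0, map_zero, map_zero]
  have hc : ∀ a : A, ∃ c : ZMod p, ρ (a : E) w = c • w := fun a =>
    (hw a (Finset.mem_univ _)).elim (fun h => ⟨1, by rw [one_smul]; exact h⟩) fun h => ⟨-1, by rw [neg_one_smul]; exact h⟩
  choose c hc using hc
  let χ : A →* ZMod p :=
    { toFun := c
      map_one' := smul_left_injective _ hw0 (by simp only; rw [← hc, OneMemClass.coe_one, map_one, Module.End.one_apply, one_smul])
      map_mul' := fun a b => smul_left_injective _ hw0 (by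
        simp only; rw [← hc, Subgroup.coe_mul, map_mul, Module.End.mul_apply, hc b, map_smul, hc a, smul_smul, mul_comm]) }
  let cj : E → A →* A := fun g =>
    ((MulAut.conj g).toMonoidHom.comp A.subtype).codRestrict A fun a => (inferInstance : A.Normal).conj_mem _ a.2 g
  have hcj : ∀ g h : E, ∀ a : A, cj g (cj h a) = cj (g * h) a := fun g h a => Subtype.ext (by simp [cj, mul_assoc])
  have hcj1 : ∀ a : A, cj 1 a = a := fun a => Subtype.ext (by simp [cj])
  set u : Fin r → V := fun i => ρ (x ^ (i : ℕ)) w with hu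
  set χs : Fin r → A →* ZMod p := fun i => χ.comp (cj (x ^ (i : ℕ))⁻¹) with hχs
  have hu' : ∀ (i : Fin r) (a : A), ρ (a : E) (u i) = χs i a • u i := fun i a => by
    have e : (a : E) * x ^ (i : ℕ) = x ^ (i : ℕ) * (cj (x ^ (i : ℕ))⁻¹ a : E) := by
      show _ = x ^ (i : ℕ) * ((x ^ (i : ℕ))⁻¹ * (a : E) * (x ^ (i : ℕ))⁻¹⁻¹)
      group
    simp only [hu]
    rw [← Module.End.mul_apply, ← map_mul, e, map_mul, Module.End.mul_apply, hc, map_smul]
    rfl
  have hnot : ¬ Function.Injective χs := by
    intro hin
    have hli : LinearIndependent (ZMod p) u := by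
      rw [Fintype.linearIndependent_iff]
      intro g hg i
      obtain ⟨φ, hφ⟩ : ∃ φ : Module.Dual (ZMod p) V, φ (u i) ≠ 0 := by
        by_contra h
        push Not at h
        exact rho_ne_zero ρ (x ^ (i : ℕ)) hw0 ((Module.forall_dual_apply_eq_zero_iff (ZMod p) _).1 h)
      have hlin := Fintype.linearIndependent_iff.1
        ((linearIndependent_monoidHom A (ZMod p)).comp χs hin) (fun j => g j * φ (u j)) (funext fun a => by
          have h := congrArg (fun v => φ (ρ (a : E) v)) hg
          simp only [map_sum, map_smul, map_zero, hu', smul_eq_mul] at h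
          rw [Finset.sum_apply, Pi.zero_apply, ← h]
          exact Finset.sum_congr rfl fun j _ => by
            simp only [Pi.smul_apply, Function.comp_apply, smul_eq_mul]
            ring) i
      exact (mul_eq_zero.1 hlin).resolve_right hφ
    have := hli.fintype_card_le_finrank
    rw [Fintype.card_fin] at this
    omega
  obtain ⟨i, j, hij, hlt⟩ : ∃ i j : Fin r, χs i = χs j ∧ (i : ℕ) < j := by
    rw [Function.Injective] at hnot
    push Not at hnot
    obtain ⟨i, j, he, hne⟩ := hnot
    rcases lt_or_gt_of_ne (fun h : (i : ℕ) = j => hne (Fin.ext h)) with h | h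
    · exact ⟨i, j, he, h⟩
    · exact ⟨j, i, he.symm, h⟩
  set y := (x ^ ((j : ℕ) - i))⁻¹ with hy
  have hyinv : ∀ b : A, χ (cj y b) = χ b := by
    intro b
    have h := DFunLike.congr_fun hij (cj (x ^ (i : ℕ)) b)
    simp only [hχs, MonoidHom.comp_apply, hcj, inv_mul_cancel, hcj1] at h
    rw [h, hy, pow_sub x hlt.le, mul_inv_rev, inv_inv, ((Commute.pow_pow_self x (i : ℕ) (j : ℕ)).inv_right).eq]
  have hpow : ∀ m : ℕ, ∀ b : A, χ (cj (y ^ m) b) = χ b := by
    intro m
    induction m with
    | zero => intro b; rw [pow_zero, hcj1]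
    | succ m ih => intro b; rw [pow_succ, ← hcj, ih, hyinv]
  have hyo : orderOf y = r := by
    rw [hy, orderOf_inv, orderOf_pow' x (by omega), hx,
      ((hr.coprime_iff_not_dvd).2 (fun hd => by
        have := Nat.le_of_dvd (by omega) hd
        omega)).gcd_eq_one, Nat.div_one]
  have hmem : x ∈ Subgroup.zpowers y := by
    have hle : Subgroup.zpowers y ≤ Subgroup.zpowers x :=
      Subgroup.zpowers_le.2 ((Subgroup.zpowers x).inv_mem (Subgroup.pow_mem _ (Subgroup.mem_zpowers x) _))
    rw [Subgroup.eq_of_le_of_card_ge hle (by rw [Nat.card_zpowers, Nat.card_zpowers, hx, hyo])]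
    exact Subgroup.mem_zpowers x
  obtain ⟨m, hm⟩ := (isOfFinOrder_of_finite y).mem_powers_iff_mem_zpowers.2 hmem
  have hfin := hpow m ⟨a₀, ha₀⟩
  rw [show y ^ m = x from hm] at hfin
  show ρ ((cj x ⟨a₀, ha₀⟩ : A) : E) w = ρ ((⟨a₀, ha₀⟩ : A) : E) w
  rw [hc, hc]
  exact congrArg (· • w) hfin

end Cfsg.Lib.Blocks.ThreeChars
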