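import Mathlib
import Cfsg.Agent.Blocks.ThreeChars.TwoPow
import Cfsg.Agent.Blocks.ThreeChars.Weights
import Cfsg.Agent.Blocks.ThreeChars.Arith

/-!
# Transitive linear groups with one class of cyclic centralisers
-/

set_option autoImplicit false
set_option linter.unusedSectionVars false
set_option linter.style.haveILetI false

namespace Cfsg.Lib.Blocks.ThreeChars

open Polynomial

universe u v

variable {p : ℕ} [hp : Fact p.Prime] {V : Type v} [AddCommGroup V] [Module (ZMod p) V] [Finite V]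
  {E : Type u} [Group E] [Finite E] (ρ : E →* Module.End (ZMod p) V)

/-- The multiplicative order at a primitive prime. -/
theorem orderOf_ppd {a s : ℕ} [Fact s.Prime] (ha : 0 < a) (hd : s ∣ p ^ a - 1)
    (hmin : ∀ k, 0 < k → k < a → ¬ s ∣ p ^ k - 1) : orderOf (p : ZMod s) = a := by
  have h1 : ∀ k, s ∣ p ^ k - 1 ↔ (p : ZMod s) ^ k = 1 := fun k => by
    rw [← ZMod.natCast_eq_zero_iff, Nat.cast_sub (Nat.one_le_pow _ _ hp.out.pos), Nat.cast_pow, Nat.cast_one, sub_eq_zero]
  exact (orderOf_eq_iff ha).2 ⟨(h1 a).1 hd, fun k hk hk0 h => hmin k hk0 hk ((h1 k).2 h)⟩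

theorem ne_of_dvd_pow_sub_one {a s : ℕ} (ha : 0 < a) (hs : s.Prime) (hd : s ∣ p ^ a - 1) : s ≠ p := by
  rintro rfl
  obtain ⟨b, rfl⟩ : ∃ b, a = b + 1 := ⟨a - 1, by omega⟩
  have h1 : 1 ≤ s ^ (b + 1) := Nat.one_le_pow _ _ hs.pos
  have := Nat.dvd_sub (dvd_pow_self s b.succ_ne_zero) hd
  rw [show s ^ (b + 1) - (s ^ (b + 1) - 1) = 1 by omega] at this
  exact hs.one_lt.ne' (Nat.dvd_one.1 this)

/-- An irreducible factor of the minimal polynomial of an element of prime order. -/
theorem factor_data (hinj : Function.Injective ρ) {y : E} {s : ℕ} [Fact s.Prime] (hy : orderOf y = s)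
    (hsp : s ≠ p) :
    ∃ P : (ZMod p)[X], Irreducible P ∧ P ∣ minpoly (ZMod p) (ρ y) ∧ P.natDegree = orderOf (p : ZMod s) := by
  have hs : s.Prime := Fact.out
  have hcop : p.Coprime s := (Nat.coprime_primes hp.out hs).2 (Ne.symm hsp)
  set T := ρ y with hT
  have hint : IsIntegral (ZMod p) T := Algebra.IsIntegral.isIntegral T
  set m := minpoly (ZMod p) T with hm
  have hdvd : m ∣ (X - C 1) * cyclotomic s (ZMod p) := by
    rw [mul_comm, map_one, cyclotomic_prime_mul_X_sub_one]
    refine minpoly.dvd _ _ ?_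
    rw [map_sub, map_pow, aeval_X, map_one, hT, ← map_pow, ← hy, pow_orderOf_eq_one, map_one, sub_self]
  by_cases hc : IsCoprime m (cyclotomic s (ZMod p))
  · exfalso
    have h1 : aeval T (X - C (1 : ZMod p)) = 0 := by
      obtain ⟨e, he⟩ := hc.dvd_of_dvd_mul_right hdvd
      rw [he, map_mul, hm, minpoly.aeval, zero_mul]
    rw [map_sub, aeval_X, aeval_C, map_one, sub_eq_zero] at h1
    have hy1 : y = 1 := hinj (by rw [map_one]; exact h1)
    rw [hy1, orderOf_one] at hy
    exact hs.one_lt.ne hy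
  · have hg : ¬ IsUnit (EuclideanDomain.gcd m (cyclotomic s (ZMod p))) := fun h =>
      hc (EuclideanDomain.gcd_isUnit_iff.1 h)
    obtain ⟨P, hP, hPd⟩ := WfDvdMonoid.exists_irreducible_factor hg
      (by rw [Ne, EuclideanDomain.gcd_eq_zero_iff]; exact fun h => minpoly.ne_zero hint h.1)
    refine ⟨P, hP, hPd.trans (EuclideanDomain.gcd_dvd_left _ _), ?_⟩
    rw [natDegree_of_dvd_cyclotomic_of_irreducible (K := ZMod p) (f := 1) (by rw [ZMod.card, pow_one]) hcop
      (hPd.trans (EuclideanDomain.gcd_dvd_right _ _)) hP, ← orderOf_units, ZMod.coe_unitOfCoprime, pow_one]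

/-- A cubic factor in dimension four over three elements: the centraliser is cyclic. -/
theorem cubic_cyclic (hinj : Function.Injective ρ) (hp3 : p = 3) (hV : Module.finrank (ZMod p) V = 4)
    (hcen : ∀ z : E, (∀ g, g * z = z * g) → z = 1) {y : E} {P : (ZMod p)[X]} (hP : Irreducible P)
    (hPm : P ∣ minpoly (ZMod p) (ρ y)) (hPdeg : P.natDegree = 3) :
    IsCyclic (Subgroup.centralizer ({y} : Set E)) := by
  set T := ρ y with hT
  have hint : IsIntegral (ZMod p) T := Algebra.IsIntegral.isIntegral T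
  set m := minpoly (ZMod p) T with hm
  obtain ⟨L, hL⟩ := hPm.trans (LinearMap.minpoly_dvd_charpoly T)
  have hL0 : L ≠ 0 := fun h => (LinearMap.charpoly_monic T).ne_zero (by rw [hL, h, mul_zero])
  have hLdeg : L.natDegree = 1 := by
    have h := congrArg natDegree hL
    rw [LinearMap.charpoly_natDegree, natDegree_mul hP.ne_zero hL0, hV, hPdeg] at h
    omega
  obtain ⟨c, hc⟩ := exists_root_of_degree_eq_one ((degree_eq_iff_natDegree_eq hL0).2 hLdeg)
  have hcm : m.IsRoot c := Module.End.hasEigenvalue_iff_isRoot.1 ((Module.End.hasEigenvalue_iff_isRoot_charpoly T c).2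
    (by rw [hL, IsRoot.def, eval_mul, hc.eq_zero, mul_zero]))
  have hcop : IsCoprime P (X - C c) := hP.coprime_iff_not_dvd.2 fun hd => by
    have := natDegree_le_of_dvd hd (X_sub_C_ne_zero c)
    rw [natDegree_X_sub_C, hPdeg] at this
    omega
  have hPX : P * (X - C c) ∣ m := hcop.mul_dvd hPm (dvd_iff_isRoot.2 hcm)
  have hle : m.natDegree ≤ 4 := by
    rw [← hV, ← LinearMap.charpoly_natDegree T]
    exact natDegree_le_of_dvd (LinearMap.minpoly_dvd_charpoly T) (LinearMap.charpoly_monic T).ne_zero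
  have hd4 : (P * (X - C c)).natDegree = 4 := by
    rw [natDegree_mul hP.ne_zero (X_sub_C_ne_zero c), natDegree_X_sub_C, hPdeg]
  have hass : Associated (P * (X - C c)) m :=
    associated_of_dvd_of_natDegree_le hPX (minpoly.ne_zero hint) (by omega)
  have hsq : Squarefree m := hass.squarefree_iff.1
    (squarefree_mul_iff.2 ⟨hcop.isRelPrime, hP.squarefree, (irreducible_X_sub_C c).squarefree⟩)
  have hdeg : m.natDegree = 4 := le_antisymm hle (hd4 ▸ natDegree_le_of_dvd hPX (minpoly.ne_zero hint))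
  haveI := Fact.mk hP
  have hpoly : ∀ g : Subgroup.centralizer ({y} : Set E), ∃ f : (ZMod p)[X], ρ g = aeval T f := fun g =>
    Cfsg.Lib.Classical.SUThree.commute_eq_aeval T hsq (hdeg.trans hV.symm)
      (by rw [hT, ← map_mul, ← map_mul, Subgroup.mem_centralizer_singleton_iff.1 g.2])
  choose f hf using hpoly
  let Ψ : (ZMod p)[X] → AdjoinRoot P := fun g => AdjoinRoot.mk P g * algebraMap (ZMod p) _ (g.eval c)
  have hΨ : ∀ a b : (ZMod p)[X], aeval T a = aeval T b → Ψ a = Ψ b := fun a b h => by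
    have hd : m ∣ a - b := minpoly.dvd _ _ (by rw [map_sub, h, sub_self])
    have h1 : AdjoinRoot.mk P a = AdjoinRoot.mk P b :=
      AdjoinRoot.mk_eq_mk.2 ((dvd_mul_right P _).trans (hPX.trans hd))
    have h2 : a.eval c = b.eval c := by
      obtain ⟨e, he⟩ := (dvd_mul_left (X - C c) P).trans (hPX.trans hd)
      have := congrArg (eval c) he
      rw [eval_sub, eval_mul, eval_sub, eval_X, eval_C, sub_self, zero_mul, sub_eq_zero] at this
      exact this
    simp only [Ψ, h1, h2]
  let ψ : Subgroup.centralizer ({y} : Set E) →* AdjoinRoot P :=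
    { toFun := fun g => Ψ (f g)
      map_one' := by
        rw [hΨ (f 1) 1 (by rw [← hf, map_one, OneMemClass.coe_one, map_one])]
        simp [Ψ]
      map_mul' := fun g h => by
        rw [hΨ (f (g * h)) (f g * f h) (by rw [← hf, map_mul, ← hf, ← hf, Subgroup.coe_mul, map_mul])]
        simp only [Ψ, eval_mul, map_mul]
        ring }
  refine isCyclic_of_injective_ringHom ψ ((injective_iff_map_eq_one ψ).2 fun g hg => Subtype.ext ?_)
  change Ψ (f g) = 1 at hg
  simp only [Ψ] at hg
  set e := (f g).eval c with he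
  have he0 : e ≠ 0 := fun h => by rw [h, map_zero, mul_zero] at hg; exact zero_ne_one hg
  have hee : e * e = 1 := by
    subst hp3
    have h := ZMod.pow_card_sub_one_eq_one he0
    norm_num at h
    rcases h with h | h <;> simp [h]
  have hmk : AdjoinRoot.mk P (f g) = AdjoinRoot.mk P (C e) := by
    rw [AdjoinRoot.mk_C, ← AdjoinRoot.algebraMap_eq]
    calc AdjoinRoot.mk P (f g) = AdjoinRoot.mk P (f g) * algebraMap (ZMod p) _ e * algebraMap (ZMod p) _ e := by
          rw [mul_assoc, ← map_mul, hee, map_one, mul_one]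
      _ = algebraMap (ZMod p) _ e := by rw [hg, one_mul]
  have hdiv : m ∣ f g - C e := (hass.symm.dvd).trans (hcop.mul_dvd (AdjoinRoot.mk_eq_mk.1 hmk)
    (dvd_iff_isRoot.2 (by rw [IsRoot.def, eval_sub, eval_C, he, sub_self])))
  obtain ⟨q, hq⟩ := hdiv
  have h0 := congrArg (aeval T) hq
  rw [map_sub, map_mul, hm, minpoly.aeval, zero_mul, sub_eq_zero, ← hf, aeval_C, Algebra.algebraMap_eq_smul_one] at h0
  exact hcen _ (scalar_central ρ hinj h0)

/-- The exceptional case of dimension four over three elements does not occur. -/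
theorem four_three_false (hinj : Function.Injective ρ) (hgood : GoodConj E) (hp3 : p = 3) (hpE : ¬ p ∣ Nat.card E)
    (hV : Module.finrank (ZMod p) V = 4) (h80 : 80 ∣ Nat.card E) {x : E} (hx : orderOf x = 5)
    (hcyc : IsCyclic (Subgroup.centralizer ({x} : Set E))) (h25 : ¬ 5 ^ 2 ∣ Nat.card E) : False := by
  classical
  haveI : Fact (Nat.Prime 5) := ⟨by norm_num⟩
  have hx1 : x ≠ 1 := fun h => by rw [h, orderOf_one] at hx; norm_num at hx
  have hcen : ∀ z : E, (∀ g, g * z = z * g) → z = 1 := fun z hz =>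
    central_eq_one hgood (by norm_num) (by norm_num) hx hcyc ((by norm_num : 2 ∣ 80).trans h80) hz
  have hprimes : ∀ s : ℕ, s.Prime → s ∣ Nat.card E → s = 2 ∨ s = 5 := by
    intro s hs hd
    by_contra hne
    push Not at hne
    haveI := Fact.mk hs
    have hs3 : s ≠ p := fun h => hpE (h ▸ hd)
    obtain ⟨y, hy⟩ := exists_prime_orderOf_dvd_card' s hd
    obtain ⟨P, hP, hPm, hPd⟩ := factor_data ρ hinj hy hs3
    have hle : P.natDegree ≤ 4 := by
      rw [← hV, ← LinearMap.charpoly_natDegree (ρ y)]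
      exact natDegree_le_of_dvd (hPm.trans (LinearMap.minpoly_dvd_charpoly _)) (LinearMap.charpoly_monic _).ne_zero
    have hdvd : s ∣ p ^ P.natDegree - 1 := by
      rw [← ZMod.natCast_eq_zero_iff, Nat.cast_sub (Nat.one_le_pow _ _ hp.out.pos), Nat.cast_pow, hPd,
        pow_orderOf_eq_one, Nat.cast_one, sub_self]
    have hpos := hP.natDegree_pos
    have h13 : s = 13 ∧ P.natDegree = 3 := by
      subst hp3
      have hmem : ∀ {n : ℕ}, n ≠ 0 → s ∣ n → s ∈ n.primeFactors := fun hn h => Nat.mem_primeFactors.2 ⟨hs, h, hn⟩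
      rcases (show P.natDegree = 1 ∨ P.natDegree = 2 ∨ P.natDegree = 3 ∨ P.natDegree = 4 by omega) with h | h | h | h <;>
        rw [h] at hdvd <;> norm_num at hdvd
      · exact absurd ((Nat.prime_dvd_prime_iff_eq hs Nat.prime_two).1 hdvd) hne.1
      · exact absurd ((Nat.prime_dvd_prime_iff_eq hs Nat.prime_two).1 (hs.dvd_of_dvd_pow (show s ∣ 2 ^ 3 by norm_num; exact hdvd))) hne.1
      · refine ⟨?_, h⟩
        rcases (hs.dvd_mul).1 (show s ∣ 2 * 13 by norm_num; exact hdvd) with h' | h'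
        · exact absurd ((Nat.prime_dvd_prime_iff_eq hs Nat.prime_two).1 h') hne.1
        · exact (Nat.prime_dvd_prime_iff_eq hs (by norm_num)).1 h'
      · rcases (hs.dvd_mul).1 (show s ∣ 2 ^ 4 * 5 by norm_num; exact hdvd) with h' | h'
        · exact absurd ((Nat.prime_dvd_prime_iff_eq hs Nat.prime_two).1 (hs.dvd_of_dvd_pow h')) hne.1
        · exact absurd ((Nat.prime_dvd_prime_iff_eq hs (by norm_num)).1 h') hne.2
    have hy1 : y ≠ 1 := fun h => by rw [h, orderOf_one] at hy; exact hs.one_lt.ne hy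
    have := orderOf_isConj (hgood y x hy1 hx1 (cubic_cyclic ρ hinj hp3 hV hcen hP hPm h13.2) hcyc)
    omega
  obtain ⟨P⟩ := (inferInstance : Nonempty (Sylow 2 E))
  have hidx : P.toSubgroup.index = 5 := by
    have h2 : ¬ 2 ∣ P.toSubgroup.index := P.not_dvd_index
    have hmul := P.toSubgroup.index_mul_card
    have hd : P.toSubgroup.index ∣ Nat.card E := Subgroup.index_dvd_card _
    have h5 : 5 ∣ P.toSubgroup.index := by
      obtain ⟨n, hn⟩ := IsPGroup.iff_card.1 P.isPGroup'
      have h : 5 ∣ P.toSubgroup.index * Nat.card P := hmul ▸ (by norm_num : 5 ∣ 80).trans h80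
      refine (Nat.Prime.dvd_mul (by norm_num)).1 h |>.resolve_right fun h' => ?_
      rw [hn] at h'
      exact absurd ((Nat.prime_dvd_prime_iff_eq (by norm_num) Nat.prime_two).1 ((by norm_num : Nat.Prime 5).dvd_of_dvd_pow h'))
        (by norm_num)
    obtain ⟨t, ht⟩ := h5
    by_contra hne
    obtain ⟨s, hs, hst⟩ := Nat.exists_prime_and_dvd (n := t) (fun h => hne (by rw [ht, h, mul_one]))
    rcases hprimes s hs (hst.trans (Dvd.intro_left 5 ht.symm) |>.trans hd) with rfl | rfl
    · exact h2 (ht ▸ hst.mul_left 5)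
    · exact h25 ((ht ▸ mul_dvd_mul_left 5 hst : 5 * 5 ∣ _).trans hd)
  -- the core of the Sylow two subgroup
  set N := P.toSubgroup.normalCore with hN
  haveI : N.Normal := Subgroup.normalCore_normal _
  have hNbot : N ≠ ⊥ := by
    intro h
    rw [hN, Subgroup.normalCore_eq_ker] at h
    have hd := Subgroup.card_dvd_of_injective _ ((MonoidHom.ker_eq_bot_iff _).1 h)
    rw [Nat.card_perm, ← Subgroup.index_eq_card, hidx] at hd
    have := (by norm_num : 16 ∣ 80).trans (h80.trans hd)
    norm_num [Nat.factorial] at this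
  haveI : Nontrivial N := (Subgroup.nontrivial_iff_ne_bot N).2 hNbot
  have hNp : IsPGroup 2 N := P.isPGroup'.to_le (Subgroup.normalCore_le _)
  let A : Subgroup E :=
    { carrier := {a | a ∈ N ∧ a * a = 1 ∧ ∀ n ∈ N, n * a = a * n}
      one_mem' := ⟨one_mem _, one_mul _, fun n _ => by rw [mul_one, one_mul]⟩
      mul_mem' := fun {a b} ha hb => ⟨mul_mem ha.1 hb.1, by
        rw [show a * b * (a * b) = a * (b * a) * b by group, hb.2.2 a ha.1 |>.symm,
          show a * (a * b) * b = (a * a) * (b * b) by group, ha.2.1, hb.2.1, one_mul],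
        fun n hn => by rw [← mul_assoc, ha.2.2 n hn, mul_assoc, hb.2.2 n hn, mul_assoc]⟩
      inv_mem' := fun {a} ha => by
        have : a⁻¹ = a := inv_eq_of_mul_eq_one_right ha.2.1
        rw [this]; exact ha }
  haveI : A.Normal := ⟨fun a ha g => ⟨(inferInstance : N.Normal).conj_mem a ha.1 g,
    by rw [show g * a * g⁻¹ * (g * a * g⁻¹) = g * (a * a) * g⁻¹ by group, ha.2.1, mul_one, mul_inv_cancel],
    fun n hn => by
      have h := ha.2.2 _ ((inferInstance : N.Normal).conj_mem n hn g⁻¹)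
      rw [inv_inv] at h
      calc n * (g * a * g⁻¹) = g * ((g⁻¹ * n * g) * a) * g⁻¹ := by group
        _ = g * (a * (g⁻¹ * n * g)) * g⁻¹ := by rw [h]
        _ = g * a * g⁻¹ * n := by group⟩⟩
  haveI : Nontrivial (Subgroup.center N) := hNp.center_nontrivial
  have h2c : 2 ∣ Nat.card (Subgroup.center N) := by
    obtain ⟨n, hn⟩ := IsPGroup.iff_card.1 (hNp.to_subgroup (Subgroup.center N))
    rw [hn]
    refine dvd_pow_self 2 fun h => ?_
    rw [h, pow_zero] at hn
    exact (Finite.one_lt_card_iff_nontrivial.2 ‹_›).ne' hn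
  obtain ⟨c, hc⟩ := exists_prime_orderOf_dvd_card' 2 h2c
  have hcA : ((c : N) : E) ∈ A := ⟨(c : N).2, by
      have h : c * c = 1 := by rw [← pow_two, ← hc, pow_orderOf_eq_one]
      exact congrArg (fun t : Subgroup.center N => ((t : N) : E)) h,
    fun n hn => congrArg Subtype.val (Subgroup.mem_center_iff.1 c.2 ⟨n, hn⟩)⟩
  have hxc := commute_of_small_dim ρ hinj (by omega) A (fun a ha => ha.2.1)
    (fun a ha b hb => hb.2.2 a ha.1) (by norm_num : Nat.Prime 5) hx (by omega) hcA
  have hmem : ((c : N) : E) ∈ Subgroup.zpowers x := by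
    rw [← centralizer_eq_zpowers hgood hx1 hcyc, Subgroup.mem_centralizer_singleton_iff]
    exact hxc.symm
  have hd5 : orderOf ((c : N) : E) ∣ 5 := by
    rw [← hx, ← Nat.card_zpowers, ← Nat.card_zpowers x]
    exact Subgroup.card_dvd_of_le (Subgroup.zpowers_le.2 hmem)
  rw [Subgroup.orderOf_coe, Subgroup.orderOf_coe, hc] at hd5
  norm_num at hd5

/-- A transitive linear group of order prime to the characteristic with one class of cyclic centralisers. -/
theorem linear_card_eq_three [Nontrivial V] (hinj : Function.Injective ρ) (hp2 : p ≠ 2) (hpE : ¬ p ∣ Nat.card E)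
    (htr : ∀ v w : V, v ≠ 0 → w ≠ 0 → ∃ g : E, ρ g v = w) (hgood : GoodConj E)
    (hsq : ∀ r : ℕ, r.Prime → r % 4 = 3 → r ∣ Nat.card E → r ^ 2 ∣ Nat.card E) : Nat.card V = 3 := by
  classical
  set a := Module.finrank (ZMod p) V with ha
  have ha0 : 0 < a := Module.finrank_pos
  obtain ⟨v, hv⟩ := exists_ne (0 : V)
  obtain ⟨H, -, hHc⟩ := stab_card ρ htr hv
  rw [card_V_eq (p := p), ← ha] at hHc
  have hdvd : p ^ a - 1 ∣ Nat.card E := Dvd.intro _ hHc
  have hp3 : 3 ≤ p := by have := hp.out.two_le; omega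
  rcases (show a = 1 ∨ a = 2 ∨ 3 ≤ a by omega) with h1 | h1 | h1
  · exact one_eq_three ρ hinj hgood hp2 htr h1
  · exfalso
    rcases Nat.eq_two_pow_or_exists_odd_prime_and_dvd (p + 1) with ⟨k, hk⟩ | ⟨r, hr, hrd, hodd⟩
    · exact two_pow_false ρ hinj hgood hp2 hpE htr h1 hk
    · exact two_odd_false ρ hinj hgood hp2 h1 (h1 ▸ hdvd) hr (fun h => by subst h; norm_num at hodd) hrd
  exfalso
  obtain ⟨r, hr, hrd, hrmin⟩ := Cfsg.Lib.Zsigmondy.zsigmondy p a (by omega) (by omega) (fun h => hp2 h.1) (fun h => by omega)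
  haveI := Fact.mk hr
  have hord : orderOf (p : ZMod r) = Module.finrank (ZMod p) V := orderOf_ppd ha0 hrd hrmin
  have hrp : r ≠ p := ne_of_dvd_pow_sub_one ha0 hr hrd
  obtain ⟨x, hx⟩ := exists_prime_orderOf_dvd_card' r (hrd.trans hdvd)
  have hcyc := centralizer_cyclic ρ hinj hx hord hrp
  have hx1 : x ≠ 1 := fun h => by rw [h, orderOf_one] at hx; exact hr.one_lt.ne hx
  have huniq : ∀ s : ℕ, s.Prime → s ∣ p ^ a - 1 → (∀ k, 0 < k → k < a → ¬ s ∣ p ^ k - 1) → s = r := by
    intro s hs hsd hsmin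
    haveI := Fact.mk hs
    obtain ⟨y, hy⟩ := exists_prime_orderOf_dvd_card' s (hsd.trans hdvd)
    have hy1 : y ≠ 1 := fun h => by rw [h, orderOf_one] at hy; exact hs.one_lt.ne hy
    rw [← hy, ← hx]
    exact orderOf_isConj (hgood y x hy1 hx1
      (centralizer_cyclic ρ hinj hy (orderOf_ppd ha0 hsd hsmin) (ne_of_dvd_pow_sub_one ha0 hs hsd)) hcyc)
  have hra : r ≤ a + 1 := by
    have hsub : (Finset.Ioo 0 r).image (fun i => x ^ i) ⊆ (Finset.range a).image (fun j => x ^ p ^ j) := by
      intro g hg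
      obtain ⟨i, hi, rfl⟩ := Finset.mem_image.1 hg
      rw [Finset.mem_Ioo] at hi
      have hio : orderOf (x ^ i) = r := by
        rw [orderOf_pow' x (by omega), hx, ((hr.coprime_iff_not_dvd).2 (fun hd => by
          have := Nat.le_of_dvd hi.1 hd
          omega)).gcd_eq_one, Nat.div_one]
      obtain ⟨e, he⟩ := isConj_iff.1 (hgood x (x ^ i) hx1
        (fun h => by rw [h, orderOf_one] at hio; exact hr.one_lt.ne hio) hcyc (centralizer_cyclic ρ hinj hio hord hrp))
      obtain ⟨j, hj, hji⟩ := conj_pow_frobenius ρ hinj hx hord hrp he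
      exact Finset.mem_image.2 ⟨j, Finset.mem_range.2 hj, hji.symm⟩
    have hinjI : Set.InjOn (fun i => x ^ i) (Finset.Ioo 0 r : Set ℕ) := fun i hi j hj h =>
      pow_injOn_Iio_orderOf (by simp only [Finset.coe_Ioo, Set.mem_Ioo] at hi; simpa [hx] using hi.2)
        (by simp only [Finset.coe_Ioo, Set.mem_Ioo] at hj; simpa [hx] using hj.2) h
    have hc := (Finset.card_le_card hsub).trans Finset.card_image_le
    rw [Finset.card_image_of_injOn hinjI, Nat.card_Ioo, Finset.card_range] at hc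
    omega
  have hp0 : (p : ZMod r) ≠ 0 := fun h => hrp
    ((Nat.prime_dvd_prime_iff_eq hr hp.out).1 ((ZMod.natCast_eq_zero_iff _ _).1 h))
  have hr1 : r = a + 1 := by
    have hd : a ∣ r - 1 := by rw [ha, ← hord]; exact ZMod.orderOf_dvd_card_sub_one hp0
    have := hr.two_le
    have := Nat.le_of_dvd (by omega) hd
    omega
  have hnsq : ¬ r ^ 2 ∣ Nat.card E := by
    intro hd
    obtain ⟨R, hR⟩ := Sylow.exists_subgroup_card_pow_prime r hd
    obtain ⟨y, hy⟩ := exists_prime_orderOf_dvd_card' (G := R) r (by rw [hR]; exact dvd_pow_self r two_ne_zero)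
    have hy' : orderOf (y : E) = r := by rw [Subgroup.orderOf_coe, hy]
    have hy1 : (y : E) ≠ 1 := fun h => by rw [h, orderOf_one] at hy'; exact hr.one_lt.ne hy'
    have hle : R ≤ Subgroup.centralizer ({(y : E)} : Set E) := fun g hg =>
      Subgroup.mem_centralizer_singleton_iff.2 (congrArg Subtype.val
        (IsPGroup.commutative_of_card_eq_prime_sq hR (⟨g, hg⟩ : R) y))
    rw [centralizer_eq_zpowers hgood hy1 (centralizer_cyclic ρ hinj hy' hord hrp)] at hle
    have := Subgroup.card_le_of_le hle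
    rw [hR, Nat.card_zpowers, hy'] at this
    nlinarith [hr.two_le]
  have h4 : 4 ∣ a := by
    have hodd := hr.eq_two_or_odd
    have : r % 4 ≠ 3 := fun h => hnsq (hsq r hr h (hrd.trans hdvd))
    omega
  obtain ⟨s, hs, hsa, hd⟩ := eval_dvd_of_unique (by omega : 1 < p) (by omega) huniq
    (fun h => hnsq (h.trans hdvd)) hr
  obtain ⟨ha4, hp3'⟩ := four_three_of_dvd hp3 h4 ha0 (hr1 ▸ hr) hs hsa (hr1 ▸ hd)
  obtain rfl : r = 5 := by omega
  refine four_three_false ρ hinj hgood hp3' hpE (ha ▸ ha4) ?_ hx hcyc hnsq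
  rw [ha4, hp3'] at hdvd
  norm_num at hdvd
  exact hdvd

end Cfsg.Lib.Blocks.ThreeChars
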