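import Mathlib
import Cfsg.Agent.Blocks.ThreeChars.Canonical
import Cfsg.Agent.Blocks.ThreeChars.Count
import Cfsg.Agent.Blocks.ThreeChars.Linear
import Cfsg.Agent.Blocks.TwoMember.Main
import Cfsg.Agent.Blocks.RankOneSmall.BlockBound
import Cfsg.Agent.S4454
import Cfsg.Agent.S4733

/-!
# A normal abelian defect group of a block with at most three members
-/

set_option autoImplicit false
set_option linter.unusedSectionVars false
set_option linter.style.haveILetI false

namespace Cfsg.Lib.Blocks.ThreeChars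

open Cfsg Cfsg.Lib.Chars Cfsg.Lib.Blocks
open scoped ComplexConjugate

universe u

local notation "C⟨" P "⟩" => Subgroup.centralizer (SetLike.coe P)

section Good

variable {G : Type u} [Group G] [Fintype G] (N : Subgroup G) [N.Normal] [Fintype N]
  (I : Subgroup G) [(N.subgroupOf I).Normal]

/-- An extension to the preimage of a cyclic centraliser. -/
theorem exists_good (hNI : N ≤ I) {θ : N → ℂ} (hθ : Cfsg.IsIrrCharacter N θ) (hI : I ≤ inertia N θ) (y : I)
    (hy : y ∈ N.subgroupOf I ∨ IsCyclic (Subgroup.centralizer ({(y : I ⧸ N.subgroupOf I)} : Set (I ⧸ N.subgroupOf I)))) :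
    ∃ (K : Subgroup G) (hNK : N ≤ K) (hyK : (y : G) ∈ K) (Φ : K → ℂ), Cfsg.IsCharacter K Φ ∧
      (∀ n : N, Φ ⟨n, hNK n.2⟩ = θ n) ∧
      ∀ x : I, ∀ (n : N) (h : (x : G)⁻¹ * ((y : G) * n) * x ∈ K),
        (y : G)⁻¹ * ((x : G)⁻¹ * ((y : G) * n) * x) ∈ N →
          Φ ⟨_, h⟩ = Φ ⟨(y : G) * n, K.mul_mem hyK (hNK n.2)⟩ := by
  classical
  rcases hy with hy | hy
  · refine ⟨N, le_rfl, hy, θ, isCharacter_of_irr hθ, fun n => rfl, fun x n h _ => ?_⟩
    have hx : conjN N (x : G)⁻¹ θ = θ := mem_inertia.1 (hI (I.inv_mem x.2))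
    have := congrFun hx ⟨(y : G) * n, N.mul_mem hy n.2⟩
    rw [← this]
    show θ _ = θ _
    exact congrArg θ (Subtype.ext (by simp))
  · set N' := N.subgroupOf I
    set Cy := Subgroup.centralizer ({(y : I ⧸ N')} : Set (I ⧸ N'))
    set A : Subgroup I := Cy.comap (QuotientGroup.mk' N')
    set K : Subgroup G := A.map I.subtype
    have hNA : N' ≤ A := fun a ha => by
      show (a : I ⧸ N') ∈ Cy
      rw [(QuotientGroup.eq_one_iff a).2 ha]
      exact one_mem _
    have hNK : N ≤ K := fun n hn => ⟨⟨n, hNI hn⟩, hNA hn, rfl⟩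
    have hKI : K ≤ I := by rintro _ ⟨a, -, rfl⟩; exact a.2
    have hmemK : ∀ (g : G) (hg : g ∈ I), g ∈ K ↔ ((⟨g, hg⟩ : I) : I ⧸ N') ∈ Cy := fun g hg =>
      ⟨fun ⟨a, ha, hag⟩ => (show (⟨g, hg⟩ : I) = a from Subtype.ext hag.symm) ▸ ha, fun h => ⟨⟨g, hg⟩, h, rfl⟩⟩
    have hyK : (y : G) ∈ K := (hmemK _ y.2).2 (Subgroup.mem_centralizer_singleton_iff.2 rfl)
    letI := Fintype.ofFinite K
    haveI : (N.subgroupOf K).Normal := Subgroup.Normal.subgroupOf inferInstance K
    let f : K →* Cy := ((QuotientGroup.mk' N').comp (Subgroup.inclusion hKI)).codRestrict Cy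
      fun k => (hmemK k (hKI k.2)).1 k.2
    have hker : f.ker = N.subgroupOf K := by
      ext k
      rw [MonoidHom.mem_ker, Subtype.ext_iff, Subgroup.coe_one]
      show ((Subgroup.inclusion hKI k : I) : I ⧸ N') = 1 ↔ _
      rw [QuotientGroup.eq_one_iff]
      rfl
    have hcyc : IsCyclic (K ⧸ N.subgroupOf K) := by
      haveI := hy
      haveI := isCyclic_of_injective (QuotientGroup.kerLift f) (QuotientGroup.kerLift_injective f)
      exact (QuotientGroup.quotientMulEquivOfEq hker).isCyclic.1 inferInstance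
    let e : N.subgroupOf K ≃* N := Subgroup.subgroupOfEquivOfLe hNK
    obtain ⟨Φ, hΦ, hres⟩ := Cfsg.Agent.S4454.ext_cyclic (N.subgroupOf K) hcyc (IsIrrCharacter.comp_mulEquiv hθ e)
      (fun g => funext fun m => by
        have h := congrFun (mem_inertia.1 (hI (hKI g.2))) (e m)
        exact h)
    refine ⟨K, hNK, hyK, Φ, isCharacter_of_irr hΦ, fun n => ?_, fun x n h hn => ?_⟩
    · exact (hres (e.symm n)).trans (congrArg θ (e.apply_symm_apply n))
    · have hxK : (x : G) ∈ K := by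
        refine (hmemK _ x.2).2 (Subgroup.mem_centralizer_singleton_iff.2 ?_)
        have h1 : (y⁻¹ * (x⁻¹ * (y * ⟨(n : G), hNI n.2⟩) * x) : I) ∈ N' := hn
        rw [← QuotientGroup.eq_one_iff] at h1
        simp only [QuotientGroup.mk_mul, QuotientGroup.mk_inv,
          (QuotientGroup.eq_one_iff (⟨(n : G), hNI n.2⟩ : I)).2 (show _ ∈ N' from n.2), mul_one] at h1
        calc ((x : I) : I ⧸ N') * (y : I ⧸ N')
            = (x : I ⧸ N') * (y : I ⧸ N') * ((y : I ⧸ N')⁻¹ * ((x : I ⧸ N')⁻¹ * (y : I ⧸ N') * (x : I ⧸ N'))) := by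
              rw [h1, mul_one]
          _ = (y : I ⧸ N') * (x : I ⧸ N') := by group
      rw [← isClassFunction_isChar (isCharacter_of_irr hΦ) ⟨(y : G) * n, K.mul_mem hyK (hNK n.2)⟩ ⟨(x : G), hxK⟩⁻¹]
      exact congrArg Φ (Subtype.ext (by simp))

end Good

variable {G : Type u} [Group G] [Fintype G] {M : Ideal AlgInt} {p : ℕ} [hp : Fact p.Prime]
  {B : Set (IrrCharacter G)} {P : Subgroup G}

/-- The linear group of an additive action. -/
theorem card_eq_three_of_mod {V : Type u} [AddCommGroup V] [Finite V] [Nontrivial V] {q : ℕ} [Fact q.Prime]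
    [Module (ZMod q) V] {E : Type u} [Group E] [Finite E] (α : E → V →+ V)
    (h1 : ∀ x, α 1 x = x) (hm : ∀ g k x, α (g * k) x = α g (α k x))
    (hinj : ∀ g k, (∀ x, α g x = α k x) → g = k) (hq2 : q ≠ 2) (hqE : ¬ q ∣ Nat.card E)
    (htr : ∀ v w : V, v ≠ 0 → w ≠ 0 → ∃ g : E, α g v = w) (hgood : GoodConj E)
    (hsq : ∀ r : ℕ, r.Prime → r % 4 = 3 → r ∣ Nat.card E → r ^ 2 ∣ Nat.card E) : Nat.card V = 3 := by
  let ρ : E →* Module.End (ZMod q) V :=
    { toFun := fun g => (α g).toZModLinearMap q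
      map_one' := LinearMap.ext h1
      map_mul' := fun g k => LinearMap.ext (hm g k) }
  exact linear_card_eq_three (p := q) ρ (fun g k h => hinj g k fun x => LinearMap.congr_fun h x) hq2 hqE htr hgood hsq

/-- The linear group of an action on an abelian group of prime exponent. -/
theorem card_eq_three_of_add {V : Type u} [AddCommGroup V] [Finite V] [Nontrivial V] {q : ℕ} [Fact q.Prime]
    (hexp : ∀ x : V, q • x = 0) {E : Type u} [Group E] [Finite E] (α : E → V →+ V)
    (h1 : ∀ x, α 1 x = x) (hm : ∀ g k x, α (g * k) x = α g (α k x))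
    (hinj : ∀ g k, (∀ x, α g x = α k x) → g = k) (hq2 : q ≠ 2) (hqE : ¬ q ∣ Nat.card E)
    (htr : ∀ v w : V, v ≠ 0 → w ≠ 0 → ∃ g : E, α g v = w) (hgood : GoodConj E)
    (hsq : ∀ r : ℕ, r.Prime → r % 4 = 3 → r ∣ Nat.card E → r ^ 2 ∣ Nat.card E) : Nat.card V = 3 :=
  @card_eq_three_of_mod V _ _ _ q _ (AddCommGroup.zmodModule hexp) E _ _ α h1 hm hinj hq2 hqE htr hgood hsq

/-- The linear group of an action on an elementary abelian group. -/
theorem card_eq_three_of_action {A : Type u} [CommGroup A] [Finite A] [Nontrivial A] {q : ℕ} [Fact q.Prime]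
    (hexp : ∀ x : A, x ^ q = 1) {E : Type u} [Group E] [Finite E] (α : E →* MulAut A)
    (hinj : Function.Injective α) (hq2 : q ≠ 2) (hqE : ¬ q ∣ Nat.card E)
    (htr : ∀ v w : A, v ≠ 1 → w ≠ 1 → ∃ g : E, α g v = w) (hgood : GoodConj E)
    (hsq : ∀ r : ℕ, r.Prime → r % 4 = 3 → r ∣ Nat.card E → r ^ 2 ∣ Nat.card E) : Nat.card A = 3 := by
  refine card_eq_three_of_add (V := Additive A) (fun x => Additive.toMul.injective (by
      rw [toMul_nsmul, toMul_zero]; exact hexp (Additive.toMul x)))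
    (fun g => MonoidHom.toAdditive (α g).toMonoidHom) (fun x => Additive.toMul.injective ?_)
    (fun g k x => Additive.toMul.injective ?_)
    (fun g k h => hinj (MulEquiv.ext fun x => congrArg Additive.toMul (h (Additive.ofMul x)))) hq2 hqE
    (fun v w hv hw => ?_) hgood hsq
  · show α 1 (Additive.toMul x) = Additive.toMul x
    rw [map_one, MulAut.one_apply]
  · show α (g * k) (Additive.toMul x) = α g (α k (Additive.toMul x))
    rw [map_mul, MulAut.mul_apply]
  · obtain ⟨g, hg⟩ := htr (Additive.toMul v) (Additive.toMul w) (fun h => hv (Additive.toMul.injective h))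
      (fun h => hw (Additive.toMul.injective h))
    exact ⟨g, Additive.toMul.injective hg⟩

/-- A prime three mod four dividing a sum of two squares divides both. -/
theorem sq_dvd_of_three_mod_four {r a b : ℕ} (hr : r.Prime) (h4 : r % 4 = 3) (h : r ∣ a ^ 2 + b ^ 2) :
    r ^ 2 ∣ a ^ 2 + b ^ 2 := by
  haveI := Fact.mk hr
  have hb : (b : ZMod r) = 0 := by
    by_contra hb
    refine ZMod.exists_sq_eq_neg_one_iff.1 ⟨(a : ZMod r) / (b : ZMod r), ?_⟩ h4
    have h' : (a : ZMod r) * a + b * b = 0 := by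
      rw [← (ZMod.natCast_eq_zero_iff _ _).2 h]; push_cast; ring
    rw [div_mul_div_comm, eq_div_iff (mul_ne_zero hb hb)]
    linear_combination -h'
  rw [ZMod.natCast_eq_zero_iff] at hb
  have ha : r ∣ a := hr.dvd_of_dvd_pow ((Nat.dvd_add_left (dvd_pow hb two_ne_zero)).1 h)
  exact dvd_add (pow_dvd_pow_of_dvd ha 2) (pow_dvd_pow_of_dvd hb 2)

/-- Three members and regular rank two. -/
theorem card_eq_three_of_rank_two [P.Normal] (hM : IsPModular p M) (hD : IsDefectGroup p M B P)
    (hB : IsPBlock M B) (hab : ∀ a ∈ P, ∀ b ∈ P, a * b = b * a) (hk : Nat.card B = 3)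
    (hl : blockRank p B = 2) (hP : P ≠ ⊥) : Nat.card P = 3 := by
  classical
  haveI : C⟨P⟩.Normal := Subgroup.normal_centralizer
  letI := Fintype.ofFinite C⟨P⟩
  obtain ⟨c, hmax⟩ := exists_pair_of_defect hM hB hD
  have hc := hmax.1
  obtain ⟨T, hT⟩ : ∃ T : Subgroup G, IsPairStab P c T := ⟨_, (isPairStab_iff hM hc.1.2).2 rfl⟩
  have htrans : ∀ y ∈ P, y ≠ 1 → ∀ y' ∈ P, y' ≠ 1 → ∃ t ∈ T, t * y * t⁻¹ = y' := fun y hy hy1 y' hy' hy'1 =>
    stab_transitive hM hD hc hab hT (by rw [hk, hl]; norm_num) hy hy1 hy' hy'1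
  have hp2 : p ≠ 2 := by
    intro h
    subst h
    exact two_false hM hB hD hab hk hP fun y hy hy1 y' hy' hy'1 => by
      obtain ⟨t, -, ht⟩ := htrans y hy hy1 y' hy' hy'1
      exact isConj_iff.2 ⟨t, ht⟩
  obtain ⟨θ, hθc, hTI, htriv, hθd⟩ := exists_theta hM hD hab hc hT
  set I := inertia C⟨P⟩ (θ : C⟨P⟩ → ℂ) with hI
  have hNI : C⟨P⟩ ≤ I := le_inertia (isClassFunction_irr θ)
  set S := Finset.univ.filter (fun χ : IrrCharacter G => classInner (fun n : C⟨P⟩ => (χ : G → ℂ) n) (θ : C⟨P⟩ → ℂ) ≠ 0)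
    with hS
  have hSB : ∀ χ ∈ S, χ ∈ B := fun χ hχ => mem_of_over hM hD hc hθc (Finset.mem_filter.1 hχ).2
  have hS2 : S.card ≤ 2 := hl ▸ card_trivial_le hM hD hB hab S hSB fun χ hχ x hx =>
    over_trivial hab htriv (Finset.mem_filter.1 hχ).2 hx
  obtain ⟨m, hm, hsum⟩ := relIndex_eq_sum_sq θ
  have hmS : ∀ χ, χ ∉ S → m χ = 0 := fun χ hχ => by
    by_contra h0
    exact hχ (Finset.mem_filter.2 ⟨Finset.mem_univ _, by rw [← hm χ]; exact_mod_cast h0⟩)
  rw [← Finset.sum_subset (Finset.subset_univ S) fun χ _ hχ => by rw [hmS χ hχ, zero_pow two_ne_zero]] at hsum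
  set N' := C⟨P⟩.subgroupOf I
  haveI : N'.Normal := Subgroup.Normal.subgroupOf inferInstance I
  set E := I ⧸ N'
  have hEcard : Nat.card E = ∑ χ ∈ S, m χ ^ 2 := hsum
  -- `p` does not divide the order of the quotient
  have hpE : ¬ p ∣ Nat.card E := by
    intro hd
    set v := (Nat.card E).factorization p
    have hv : 0 < v := hp.out.factorization_pos_of_dvd Nat.card_pos.ne' hd
    have hdiv : ∀ χ ∈ S, p ^ v ∣ m χ := by
      intro χ hχ
      have hne := (Finset.mem_filter.1 hχ).2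
      have hdeg : deg (χ : G → ℂ) = m χ * I.index * deg (θ : C⟨P⟩ → ℂ) := by
        apply Nat.cast_injective (R := ℂ)
        push_cast
        rw [← irr_apply_one_eq_deg χ, hm χ]
        have h := congrFun (clifford C⟨P⟩ χ.2 θ.2 hne) 1
        simp only [OneMemClass.coe_one, Pi.smul_apply, Finset.sum_apply, smul_eq_mul] at h
        rw [h, mul_assoc]
        congr 1
        rw [Finset.sum_congr rfl (g := fun _ => (deg (θ : C⟨P⟩ → ℂ) : ℂ)) (fun φ hφ => by
          obtain ⟨g, rfl⟩ := (mem_conjOrbit C⟨P⟩).mp hφ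
          rw [← irr_apply_one_eq_deg θ]
          exact congrArg (θ : C⟨P⟩ → ℂ) (Subtype.ext (by simp))), Finset.sum_const, nsmul_eq_mul]
        congr 2
        have h2 := card_conjOrbit C⟨P⟩ (θ : C⟨P⟩ → ℂ)
        rw [← hI, ← I.index_mul_card] at h2
        exact Nat.eq_of_mul_eq_mul_right Nat.card_pos h2
      have hPI : P.index = P.relIndex C⟨P⟩ * (Nat.card E * I.index) := by
        rw [← Subgroup.relIndex_mul_index (show P ≤ C⟨P⟩ from fun a ha => Subgroup.mem_centralizer_iff.2 fun b hb => hab b hb a ha),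
          ← Subgroup.relIndex_mul_index hNI]
        rfl
      have hm0 : m χ ≠ 0 := fun h => hne (by rw [← hm χ, h, Nat.cast_zero])
      have h := deg_factorization hM hB hD hab (hSB χ hχ)
      rw [hdeg, hPI, Nat.factorization_mul (mul_ne_zero hm0 Subgroup.index_ne_zero_of_finite) (deg_irr_pos θ).ne',
        Nat.factorization_mul hm0 Subgroup.index_ne_zero_of_finite,
        Nat.factorization_mul (show P.relIndex C⟨P⟩ ≠ 0 from Subgroup.index_ne_zero_of_finite) (mul_ne_zero Nat.card_pos.ne' Subgroup.index_ne_zero_of_finite),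
        Nat.factorization_mul Nat.card_pos.ne' Subgroup.index_ne_zero_of_finite] at h
      simp only [Finsupp.add_apply] at h
      rw [hθd] at h
      exact (hp.out.pow_dvd_iff_le_factorization hm0).2 (show v ≤ (m χ).factorization p by omega)
    have h2 : p ^ (2 * v) ∣ Nat.card E := by
      rw [hEcard]
      exact Finset.dvd_sum fun χ hχ => by rw [mul_comm, pow_mul]; exact pow_dvd_pow_of_dvd (hdiv χ hχ) 2
    have := (hp.out.pow_dvd_iff_le_factorization Nat.card_pos.ne').1 h2
    omega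
  -- primes three mod four
  have hsq : ∀ r : ℕ, r.Prime → r % 4 = 3 → r ∣ Nat.card E → r ^ 2 ∣ Nat.card E := by
    intro r hr h4 hrd
    obtain ⟨a, b, hab'⟩ : ∃ a b : ℕ, ∑ χ ∈ S, m χ ^ 2 = a ^ 2 + b ^ 2 := by
      rcases (show S.card = 0 ∨ S.card = 1 ∨ S.card = 2 by omega) with h | h | h
      · exact ⟨0, 0, by rw [Finset.card_eq_zero.1 h]; simp⟩
      · obtain ⟨s, hs⟩ := Finset.card_eq_one.1 h; exact ⟨m s, 0, by rw [hs]; simp⟩
      · obtain ⟨s, t, hne, hs⟩ := Finset.card_eq_two.1 h; exact ⟨m s, m t, by rw [hs, Finset.sum_pair hne]⟩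
    rw [hEcard, hab'] at hrd ⊢
    exact sq_dvd_of_three_mod_four hr h4 hrd
  -- one class with cyclic centraliser
  have hgood : GoodConj E := by
    intro y z hy1 hz1 hyc hzc
    by_contra hnconj
    obtain ⟨y₀, rfl⟩ := QuotientGroup.mk_surjective y
    obtain ⟨z₀, rfl⟩ := QuotientGroup.mk_surjective z
    let l : Fin 3 → I := ![1, y₀, z₀]
    have hl' : ∀ i, l i ∈ N' ∨ IsCyclic (Subgroup.centralizer ({(l i : E)} : Set E)) := by
      intro i; fin_cases i
      · exact Or.inl (one_mem _)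
      · exact Or.inr hyc
      · exact Or.inr hzc
    choose K hNK hyK Φ hΦ hres hinv using fun i => exists_good C⟨P⟩ I hNI θ.2 le_rfl (l i) (hl' i)
    have hle := card_good_le C⟨P⟩ θ.2 S (fun χ hχ => Finset.mem_filter.2 ⟨Finset.mem_univ _, hχ⟩)
      (fun i => (l i : G)) K hNK hyK Φ hΦ hres (fun i x hx n h h' => hinv i ⟨x, hx⟩ n h h') (by
      intro i j x hx hmem
      have hc' : IsConj (l j : E) (l i : E) := by
        refine isConj_iff.2 ⟨((⟨x, hx⟩ : I) : E)⁻¹, ?_⟩
        have h1 : ((l i)⁻¹ * ((⟨x, hx⟩ : I)⁻¹ * l j * ⟨x, hx⟩) : I) ∈ N' := hmem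
        rw [← QuotientGroup.eq_one_iff] at h1
        simp only [QuotientGroup.mk_mul, QuotientGroup.mk_inv] at h1
        rw [inv_inv]
        exact (inv_mul_eq_one.1 h1).symm
      have h1 : ((1 : I) : E) = 1 := rfl
      fin_cases i <;> fin_cases j <;> first
        | rfl
        | exact absurd hc' hnconj
        | exact absurd hc'.symm hnconj
        | exact absurd (isConj_one_left.1 hc') hy1
        | exact absurd (isConj_one_left.1 hc'.symm) hy1
        | exact absurd (isConj_one_left.1 hc') hz1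
        | exact absurd (isConj_one_left.1 hc'.symm) hz1)
    rw [Fintype.card_fin] at hle
    omega
  -- all non-trivial elements of `P` have order `p`
  have hexp : ∀ x : P, x ^ p = 1 := by
    haveI : Nontrivial P := (Subgroup.nontrivial_iff_ne_bot P).2 hP
    obtain ⟨k, hk'⟩ := IsPGroup.iff_card.1 hc.1.1
    have hpP : p ∣ Nat.card P := by
      rw [hk']
      refine dvd_pow_self p fun h => ?_
      rw [h, pow_zero] at hk'
      exact (Finite.one_lt_card_iff_nontrivial.2 ‹_›).ne' hk'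
    obtain ⟨x₀, hx₀⟩ := exists_prime_orderOf_dvd_card' p hpP
    intro x
    by_cases hx : x = 1
    · rw [hx, one_pow]
    obtain ⟨t, -, ht⟩ := htrans (x₀ : G) x₀.2 (fun h => by
      rw [← Subgroup.orderOf_coe, h, orderOf_one] at hx₀; exact hp.out.one_lt.ne hx₀) x x.2 (fun h => hx (Subtype.ext h))
    have : orderOf x = p := by
      rw [← Subgroup.orderOf_coe, ← orderOf_isConj (isConj_iff.2 ⟨t, ht⟩ : IsConj (x₀ : G) x), Subgroup.orderOf_coe, hx₀]
    rw [← this, pow_orderOf_eq_one]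
  letI : CommGroup P := { (inferInstance : Group P) with
    mul_comm := fun a b => Subtype.ext (hab a a.2 b b.2) }
  haveI : Nontrivial P := (Subgroup.nontrivial_iff_ne_bot P).2 hP
  let σ : I →* MulAut P := (MulAut.conjNormal (H := P)).comp I.subtype
  have hσ : ∀ (g : I) (x : P), ((σ g x : P) : G) = g * x * (g : G)⁻¹ := fun g x => MulAut.conjNormal_apply _ _
  have hσker : ∀ g : I, σ g = 1 ↔ g ∈ N' := fun g => by
    refine ⟨fun h => Subgroup.mem_centralizer_iff.2 fun x hx => ?_, fun h => MulEquiv.ext fun a => Subtype.ext ?_⟩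
    · have := hσ g ⟨x, hx⟩
      rw [h, MulAut.one_apply] at this
      exact ((congrArg (· * (g : G)) this).trans (by group) : x * g = g * x)
    · rw [hσ, MulAut.one_apply, (show (g : G) * (a : G) = a * g from (Subgroup.mem_centralizer_iff.1 h a a.2).symm),
        mul_inv_cancel_right]
  let α : E →* MulAut P := QuotientGroup.lift N' σ fun g hg => (hσker g).2 hg
  have hinj : Function.Injective α := (injective_iff_map_eq_one α).2 fun e he => by
    obtain ⟨g, rfl⟩ := QuotientGroup.mk_surjective e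
    exact (QuotientGroup.eq_one_iff g).2 ((hσker g).1 he)
  refine card_eq_three_of_action hexp α hinj hp2 hpE (fun v w hv hw => ?_) hgood hsq
  obtain ⟨t, htT, ht⟩ := htrans v v.2 (fun h => hv (Subtype.ext h)) w w.2 (fun h => hw (Subtype.ext h))
  refine ⟨((⟨t, hTI htT⟩ : I) : E), Subtype.ext ?_⟩
  rw [← ht]
  exact hσ ⟨t, hTI htT⟩ v

/-- **A normal abelian defect group of a block with at most three members has order at most three.** -/
theorem card_le_three [P.Normal] (hM : IsPModular p M) (hD : IsDefectGroup p M B P) (hB : IsPBlock M B)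
    (hab : ∀ a ∈ P, ∀ b ∈ P, a * b = b * a) (hk : Nat.card B ≤ 3) : Nat.card P ≤ 3 := by
  classical
  by_cases hP : P = ⊥
  · rw [hP, Subgroup.card_bot]; omega
  have hd : blockDefect p B ≠ 0 := fun h => hP (Subgroup.card_eq_one.1 (by
    rw [IsDefectGroup.card hM hB hD, h, pow_zero]))
  obtain ⟨hle, -, hiff⟩ := Cfsg.Agent.S4733.result p M hM B hB
  have hl1 := one_le_blockRank (p := p) hM hB
  have hne : Nat.card B ≠ blockRank p B := fun h => hd (hiff.2 h)
  rcases (show Nat.card B = 2 ∨ (Nat.card B = 3 ∧ (blockRank p B = 1 ∨ blockRank p B = 2)) by omega) with h | ⟨h, h' | h'⟩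
  · rw [(TwoMember.card_eq_two_iff hM hB hD).1 h]; omega
  · rw [IsDefectGroup.card hM hB hD, RankOneSmall.pow_defect_eq hM hB h' (by omega), h]
  · rw [card_eq_three_of_rank_two hM hD hB hab h h' hP]

end Cfsg.Lib.Blocks.ThreeChars
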